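import Cfsg.Agent.Fusion.Biset.Graph

/-!
The congruence between marks at the graphs over a fixed first projection, in a saturated system.
-/

set_option autoImplicit false
set_option linter.style.haveILetI false

open Cfsg

namespace CfsgLib.Biset

open Cfsg.FusionSystem CfsgLib.Fusion

universe u

variable {Ω : Type u} [Group Ω] {S : Subgroup Ω} [Finite S] {F : Cfsg.FusionSystem S}

/-- The marks agree on graphs with equal first projection of order above `k`. -/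
def StableAbove (F : Cfsg.FusionSystem S) (n : Subgroup (S × S) → ℕ) (k : ℕ) : Prop :=
  ∀ (U : Subgroup Ω) (φ φ' : U →* Ω), k < Nat.card U → φ ∈ F.Hom U → φ' ∈ F.Hom U →
    mark n (gsub φ) = mark n (gsub φ')

/-- Burnside's lemma for a group acting through `Φ` on the fixed points of a normalized subgroup. -/
lemma dvd_sum_fix {G K : Type*} [Group G] [Group K] [Finite K] [Fintype G] (Φ : G →* K) (H H₀ : Subgroup K)
    (hΦ : ∀ g, Φ g ∈ Subgroup.normalizer (H : Set K)) :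
    Fintype.card G ∣ ∑ g : G, fix H₀ (H ⊔ Subgroup.zpowers (Φ g)) := by
  classical
  letI : MulAction G {q : K ⧸ H₀ // ∀ h ∈ H, h • q = q} :=
    { smul := fun g q => ⟨Φ g • (q : K ⧸ H₀), fun h hh => by
        have h1 := q.2 _ ((Subgroup.mem_normalizer_iff.1 ((Subgroup.normalizer (H : Set K)).inv_mem (hΦ g)) h).1 hh)
        calc h • Φ g • (q : K ⧸ H₀) = Φ g • ((Φ g)⁻¹ * h * (Φ g)⁻¹⁻¹) • (q : K ⧸ H₀) := by
              rw [← mul_smul, ← mul_smul]; congr 1; group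
          _ = Φ g • (q : K ⧸ H₀) := by rw [h1]⟩
      one_smul := fun q => Subtype.ext (by show Φ 1 • (q : K ⧸ H₀) = q; rw [map_one, one_smul])
      mul_smul := fun a b q => Subtype.ext (by
        show Φ (a * b) • (q : K ⧸ H₀) = Φ a • Φ b • (q : K ⧸ H₀)
        rw [map_mul, mul_smul]) }
  haveI : Fintype {q : K ⧸ H₀ // ∀ h ∈ H, h • q = q} := Fintype.ofFinite _
  haveI : Fintype (Quotient (MulAction.orbitRel G {q : K ⧸ H₀ // ∀ h ∈ H, h • q = q})) := Fintype.ofFinite _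
  have hB := MulAction.sum_card_fixedBy_eq_card_orbits_mul_card_group G {q : K ⧸ H₀ // ∀ h ∈ H, h • q = q}
  refine ⟨_, Eq.trans ?_ (hB.trans (Nat.mul_comm _ _))⟩
  refine Finset.sum_congr rfl fun g _ => ?_
  rw [← Nat.card_eq_fintype_card]
  refine Nat.card_congr
    { toFun := fun q => ⟨⟨q.1, fun h hh => q.2 h (Subgroup.mem_sup_left hh)⟩,
        Subtype.ext (q.2 _ (Subgroup.mem_sup_right (Subgroup.mem_zpowers _)))⟩
      invFun := fun q => ⟨(q.1 : K ⧸ H₀), fun h hh => ?_⟩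
      left_inv := fun q => rfl
      right_inv := fun q => rfl }
  have hle : H ⊔ Subgroup.zpowers (Φ g) ≤ MulAction.stabilizer K (q.1 : K ⧸ H₀) :=
    sup_le (fun x hx => q.1.2 x hx) (Subgroup.zpowers_le.2 (congrArg Subtype.val q.2))
  exact hle hh

lemma fix_map_conj_self {K : Type*} [Group K] [Finite K] (H : Subgroup K) (a : K) :
    fix (H.map (MulAut.conj a).toMonoidHom) (H.map (MulAut.conj a).toMonoidHom) = fix H H := by
  have h1 := fix_self_mul_card (H.map (MulAut.conj a).toMonoidHom)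
  have hN : (Subgroup.normalizer (H : Set K)).map (MulAut.conj a).toMonoidHom =
      Subgroup.normalizer ((H.map (MulAut.conj a).toMonoidHom : Subgroup K) : Set K) :=
    Subgroup.map_equiv_normalizer_eq H (MulAut.conj a)
  rw [Subgroup.card_map_of_injective (MulAut.conj a).injective, ← hN,
    Subgroup.card_map_of_injective (MulAut.conj a).injective, ← fix_self_mul_card H] at h1
  exact Nat.eq_of_mul_eq_mul_right Nat.card_pos h1

/-- Any map over `U` has the same mark as a fixed one, modulo the order of its Weyl group. -/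
theorem exists_base_congr {p : ℕ} [Fact p.Prime] (hS : IsPGroup p S) (hF : F.IsSaturated p)
    {n : Subgroup (S × S) → ℕ} (hn : ∀ H, n H ≠ 0 → IsFGraph F H) {k : ℕ} (hst : StableAbove F n k)
    {U : Subgroup Ω} (hU : U ≤ S) (hk : Nat.card U = k) :
    ∃ φ₀ ∈ F.Hom U, ∀ φ ∈ F.Hom U,
      mark n (gsub φ) ≡ mark n (gsub φ₀) [MOD fix (gsub (S := S) φ) (gsub φ)] := by
  classical
  haveI := finite_mulAut (S := S) hU
  obtain ⟨R₀, e₀, he₀, hFull⟩ := exists_FullK p hS hF hU (autInducedBy S U)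
  refine ⟨_, he₀, fun φ hφ => ?_⟩
  set H := gsub (S := S) φ with hH
  set N := Subgroup.normalizer (H : Set (S × S)) with hN
  -- what normalizing a graph means
  have hNmem : ∀ x ∈ N, ((x.1 : S) : Ω) ∈ Subgroup.normalizer (U : Set Ω) ∧
      ∀ u : U, ∃ h : (x.1 : Ω) * u * (x.1 : Ω)⁻¹ ∈ U,
        φ ⟨_, h⟩ = (x.2 : Ω) * φ u * (x.2 : Ω)⁻¹ := by
    intro x hx
    have key : ∀ u : U, ∃ h : (x.1 : Ω) * u * (x.1 : Ω)⁻¹ ∈ U,
        φ ⟨_, h⟩ = (x.2 : Ω) * φ u * (x.2 : Ω)⁻¹ := fun u =>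
      (Subgroup.mem_normalizer_iff.1 hx (gpt hφ u)).1 (gpt_mem hφ u)
    haveI := finite_of_le hU
    exact ⟨Subgroup.mem_normalizer_fintype (S := (U : Set Ω)) fun u hu => (key ⟨u, hu⟩).1, key⟩
  let fstN : N →* normalizerIn S U := MonoidHom.mk'
    (fun x => ⟨((x : S × S).1 : Ω), SetLike.coe_mem _, (hNmem x x.2).1⟩) fun a b => rfl
  let ρ : N →* MulAut R₀ := ((MulAut.congr e₀).toMonoidHom.comp (conjAut U S)).comp fstN
  have hNp : IsPGroup p N := by
    obtain ⟨m, hm⟩ := IsPGroup.iff_card.1 hS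
    exact (IsPGroup.of_card (show Nat.card (S × S) = p ^ (m + m) by rw [Nat.card_prod, hm, pow_add])).to_subgroup N
  have hρ : ρ.range ≤ F.autGroup R₀ ⊓ (autInducedBy S U).map (MulAut.congr e₀).toMonoidHom := by
    rintro _ ⟨x, rfl⟩
    exact ⟨he₀.congr_mem (autInducedBy_le_autGroup hU (conjAut_mem (fstN x))),
      _, conjAut_mem (fstN x), rfl⟩
  obtain ⟨χ, hχ, hχX⟩ := exists_conj_le_of_FullK p hS hFull ρ.range
    (hNp.of_surjective ρ.rangeRestrict ρ.rangeRestrict_surjective) hρ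
  obtain ⟨κ, hκ, hκχ⟩ := hχ.2
  obtain ⟨a₀, ha₀, hκa⟩ := mem_autInducedBy.1 hκ
  set R := φ.range with hR
  set e : U ≃* R := isoOfHom (F.injective_of_mem hφ) rfl with he
  have heI : IsoIn F e := isoIn_isoOfHom hφ rfl
  set θ : R ≃* R₀ := (e.symm.trans e₀).trans χ with hθ
  have hθI : IsoIn F θ := (heI.symm.trans he₀).trans (isoIn_aut he₀.le_right hχ.1)
  obtain ⟨ψ, hψ, hψθ⟩ := hFull.1.2 R _ hθI (IsoIn.range_eq θ)
  -- the second projection of `N` lies in the extender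
  have hsnd : ∀ x ∈ N, ((x.2 : S) : Ω) ∈ extender S R (R₀.subtype.comp θ.toMonoidHom) := by
    intro x hx
    obtain ⟨hx1, hkey⟩ := hNmem x hx
    have hRn : (x.2 : Ω) ∈ Subgroup.normalizer (R : Set Ω) := by
      haveI := finite_of_le (range_le hφ)
      refine Subgroup.mem_normalizer_fintype (S := (R : Set Ω)) ?_
      rintro _ ⟨u, rfl⟩
      obtain ⟨h, hh⟩ := hkey u
      exact ⟨⟨_, h⟩, hh⟩
    obtain ⟨h, hhS, hhx⟩ := mem_autInducedBy.1 (hχX (ρ ⟨x, hx⟩) ⟨⟨x, hx⟩, rfl⟩).1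
    refine mem_extender.2 ⟨x.2.2, hRn, h, hhS, fun r hr => ?_⟩
    obtain ⟨u, rfl⟩ := e.surjective r
    obtain ⟨hu, hue⟩ := hkey u
    have h1 : (⟨(x.2 : Ω) * (e u : R) * (x.2 : Ω)⁻¹, hr⟩ : R) = e (conjAut U S (fstN ⟨x, hx⟩) u) :=
      Subtype.ext hue.symm
    have h2 : θ (e (conjAut U S (fstN ⟨x, hx⟩) u)) = (χ * ρ ⟨x, hx⟩ * χ⁻¹ : MulAut R₀) (θ (e u)) := by
      simp only [θ, MulEquiv.trans_apply, MulEquiv.symm_apply_apply, MulAut.mul_apply, MulAut.inv_apply_self]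
      refine congrArg χ ?_
      simp [ρ]
    show ((θ _ : R₀) : Ω) = h * ((θ (e u) : R₀) : Ω) * h⁻¹
    rw [h1, h2, hhx]
  let Φ : N →* S × S := MonoidHom.mk'
    (fun x => ((x : S × S).1, ⟨ψ ⟨((x : S × S).2 : Ω), hsnd x x.2⟩, val_mem hψ _⟩)) fun a b => by
      refine Prod.ext rfl (Subtype.ext ?_)
      show ψ _ = ψ _ * ψ _
      rw [← map_mul]
      rfl
  have hΦinj : Function.Injective Φ := fun a b hab => by
    have h1 := congrArg Prod.fst hab
    have h2 := congrArg (fun z : S × S => ((z.2 : S) : Ω)) hab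
    have h3 := F.injective_of_mem hψ h2
    exact Subtype.ext (Prod.ext h1 (Subtype.ext (congrArg Subtype.val h3 :)))
  set HN := H.subgroupOf N with hHN
  have hHle : H ≤ N := Subgroup.le_normalizer
  have hHN1 : HN.map N.subtype = H := Subgroup.map_subgroupOf_eq_of_le hHle
  -- transport of graphs inside `N`
  have htw : ∀ L : Subgroup N, (k < Nat.card L) → mark n (L.map N.subtype) = mark n (L.map Φ) := by
    intro L hL
    have fwd : ∀ (V : Subgroup Ω) (c : V →* Ω), c ∈ F.Hom V → L.map N.subtype = gsub c →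
        ∃ c' ∈ F.Hom V, L.map Φ = gsub c' := by
      intro V c hc hLc
      have hcE : ∀ v, c v ∈ extender S R (R₀.subtype.comp θ.toMonoidHom) := by
        intro v
        obtain ⟨x, -, hxv⟩ := hLc.ge (gpt_mem hc v)
        have := hsnd x x.2
        rw [show ((x : S × S)) = gpt hc v from hxv] at this
        exact this
      refine ⟨_, F.comp_mem hc hψ hcE, ?_⟩
      ext y
      rw [map_right_gsub hc hψ hcE]
      constructor
      · rintro ⟨x, hx, rfl⟩
        exact ⟨(x : S × S), hLc.le ⟨x, hx, rfl⟩, hsnd x x.2, rfl, rfl⟩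
      · rintro ⟨z, hz, hzE, h1, h2⟩
        obtain ⟨x, hx, rfl⟩ := hLc.ge hz
        exact ⟨x, hx, Prod.ext h1.symm (Subtype.ext h2)⟩
    by_cases hg : IsFGraph F (L.map N.subtype)
    · obtain ⟨V, c, hc, hLc⟩ := hg
      obtain ⟨c', hc', hLc'⟩ := fwd V c hc hLc
      rw [hLc, hLc']
      refine hst V c c' ?_ hc hc'
      rwa [← card_gsub hc, ← hLc, Subgroup.card_map_of_injective Subtype.val_injective]
    · have hg' : ¬ IsFGraph F (L.map Φ) := by
        rintro ⟨V, c, hc, hLc⟩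
        obtain ⟨γ, hγ, -, hγ1, -⟩ := exists_inv hψ (rfl : ψ.range = ψ.range)
        have hcr : ∀ v, c v ∈ ψ.range := fun v => by
          obtain ⟨x, -, hxv⟩ := hLc.ge (gpt_mem hc v)
          exact ⟨_, congrArg (fun z : S × S => ((z.2 : S) : Ω)) hxv⟩
        refine hg ⟨V, _, F.comp_mem hc hγ hcr, ?_⟩
        ext y
        rw [map_right_gsub hc hγ hcr]
        constructor
        · rintro ⟨x, hx, rfl⟩
          exact ⟨Φ x, hLc.le ⟨x, hx, rfl⟩, ⟨_, rfl⟩, rfl, hγ1 _ _⟩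
        · rintro ⟨z, hz, hzE, h1, h2⟩
          obtain ⟨x, hx, rfl⟩ := hLc.ge hz
          exact ⟨x, hx, Prod.ext h1.symm (Subtype.ext ((hγ1 _ _).symm.trans h2))⟩
      rw [mark_eq_zero hn hg, mark_eq_zero hn hg']
  -- the image of `H`
  set H' := HN.map Φ with hH'
  have hH'm : mark n H' = mark n (gsub (S := S) (R₀.subtype.comp e₀.toMonoidHom)) := by
    have hc : H' = (gsub (S := S) (R₀.subtype.comp e₀.toMonoidHom)).map
        (MulAut.conj (((⟨a₀, ha₀⟩ : S)⁻¹, 1) : S × S)).toMonoidHom := by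
      have hu : ∀ u : U, ∀ hE, ψ ⟨φ u, hE⟩ = ((e₀ (κ u) : R₀) : Ω) := fun u hE => by
        rw [hψθ (φ u) ⟨u, rfl⟩ hE]
        show ((χ (e₀ (e.symm ⟨φ u, _⟩)) : R₀) : Ω) = _
        rw [show (⟨φ u, ⟨u, rfl⟩⟩ : R) = e u from rfl, e.symm_apply_apply]
        have : MulAut.congr e₀ κ = χ := hκχ
        rw [← this]
        simp
      ext y
      constructor
      · rintro ⟨x, hx, rfl⟩
        obtain ⟨hu', he'⟩ := Subgroup.mem_subgroupOf.1 hx
        set u : U := ⟨_, hu'⟩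
        have hmem : a₀ * (u : Ω) * a₀⁻¹ ∈ U := hκa u ▸ (κ u).2
        refine ⟨(⟨a₀, ha₀⟩ * (x : S × S).1 * ⟨a₀, ha₀⟩⁻¹, (Φ x).2), ⟨hmem, ?_⟩,
          Prod.ext (by simp [Φ, mul_assoc]) (by simp [Φ])⟩
        show ((e₀ ⟨_, hmem⟩ : R₀) : Ω) = ψ _
        have h3 := hu u (he' ▸ hsnd x x.2)
        rw [show (⟨_, hmem⟩ : U) = κ u from Subtype.ext (hκa u).symm, ← h3]
        exact congrArg ψ (Subtype.ext he')
      · rintro ⟨z, ⟨hz, hze⟩, rfl⟩
        obtain ⟨u, huz⟩ := κ.surjective (⟨_, hz⟩ : U)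
        refine ⟨⟨gpt hφ u, hHle (gpt_mem hφ u)⟩, gpt_mem hφ u, ?_⟩
        have huz' : a₀ * (u : Ω) * a₀⁻¹ = (z.1 : Ω) := (hκa u).symm.trans (congrArg Subtype.val huz)
        refine Prod.ext (Subtype.ext ?_) (Subtype.ext ?_)
        · show (u : Ω) = ((((⟨a₀, ha₀⟩ : S)⁻¹, (1 : S)) * z * ((⟨a₀, ha₀⟩ : S)⁻¹, (1 : S))⁻¹).1 : Ω)
          show (u : Ω) = a₀⁻¹ * (z.1 : Ω) * a₀⁻¹⁻¹
          rw [← huz']
          group
        · show ψ ⟨φ u, _⟩ = ((((⟨a₀, ha₀⟩ : S)⁻¹, (1 : S)) * z * ((⟨a₀, ha₀⟩ : S)⁻¹, (1 : S))⁻¹).2 : Ω)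
          show ψ ⟨φ u, _⟩ = 1 * (z.2 : Ω) * 1⁻¹
          refine (hu u _).trans ?_
          rw [huz, inv_one, mul_one, one_mul]
          exact hze
    rw [hc, mark_conj]
  -- Burnside on both sides
  letI : Fintype N := Fintype.ofFinite N
  letI : Fintype (Subgroup (S × S)) := Fintype.ofFinite _
  have hnormH' : ∀ x : N, Φ x ∈ Subgroup.normalizer (H' : Set (S × S)) := fun x => by
    haveI hn' : HN.Normal := Subgroup.normal_in_normalizer
    refine Subgroup.mem_normalizer_fintype (S := (H' : Set (S × S))) ?_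
    rintro _ ⟨y, hy, rfl⟩
    exact ⟨x * y * x⁻¹, hn'.conj_mem y hy x, by simp⟩
  have hdvd : ∀ (Ψ : N →* S × S) (T : Subgroup (S × S)), (∀ x, Ψ x ∈ Subgroup.normalizer (T : Set (S × S))) →
      (Fintype.card N : ℤ) ∣ ((∑ g : N, mark n (T ⊔ Subgroup.zpowers (Ψ g)) : ℕ) : ℤ) := by
    intro Ψ T hT
    refine Int.natCast_dvd_natCast.2 ?_
    simp only [mark_eq]
    rw [Finset.sum_comm]
    refine Finset.dvd_sum fun H₀ _ => ?_
    rw [← Finset.mul_sum]
    exact dvd_mul_of_dvd_right (dvd_sum_fix Ψ T H₀ hT) _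
  have h1 := dvd_sub (hdvd N.subtype H fun x => x.2) (hdvd Φ H' hnormH')
  have hterm : ∀ g : N, (mark n (H ⊔ Subgroup.zpowers (N.subtype g)) : ℤ) -
      (mark n (H' ⊔ Subgroup.zpowers (Φ g)) : ℤ) =
        if g ∈ HN then (mark n H : ℤ) - mark n H' else 0 := by
    intro g
    split_ifs with hg
    · have e1 : H ⊔ Subgroup.zpowers (N.subtype g) = H :=
        sup_eq_left.2 (Subgroup.zpowers_le.2 (show N.subtype g ∈ H from hg))
      have e2 : H' ⊔ Subgroup.zpowers (Φ g) = H' :=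
        sup_eq_left.2 (Subgroup.zpowers_le.2 (show Φ g ∈ H' from ⟨g, hg, rfl⟩))
      rw [e1, e2]
    · have hL := htw (HN ⊔ Subgroup.zpowers g) (by
        rw [← hk, ← card_gsub hφ, ← Nat.card_congr (Subgroup.subgroupOfEquivOfLe hHle).toEquiv]
        refine lt_of_le_of_ne (Subgroup.card_le_of_le le_sup_left) fun h => hg ?_
        rw [Subgroup.eq_of_le_of_card_ge (le_sup_left : HN ≤ HN ⊔ Subgroup.zpowers g) h.ge]
        exact Subgroup.mem_sup_right (Subgroup.mem_zpowers g))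
      rw [Subgroup.map_sup, Subgroup.map_sup, MonoidHom.map_zpowers, MonoidHom.map_zpowers, hHN1] at hL
      rw [hL]
      exact sub_self _
  rw [Nat.cast_sum, Nat.cast_sum, ← Finset.sum_sub_distrib, Finset.sum_congr rfl fun g _ => hterm g,
    ← Finset.sum_filter, Finset.sum_const, nsmul_eq_mul] at h1
  have hcardH : (Finset.univ.filter fun g : N => g ∈ HN).card = Nat.card H := by
    rw [← Nat.card_congr (Subgroup.subgroupOfEquivOfLe hHle).toEquiv, Nat.card_eq_fintype_card,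
      Fintype.card_subtype]
  rw [hcardH, ← Nat.card_eq_fintype_card, ← fix_self_mul_card H, Nat.cast_mul, mul_comm (fix H H : ℤ)] at h1
  have h2 := Int.dvd_of_mul_dvd_mul_left (by exact_mod_cast Nat.card_pos.ne') h1
  rw [← hH'm]
  exact (Nat.modEq_iff_dvd.2 h2).symm

end CfsgLib.Biset
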