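import Cfsg.Agent.Fusion.Biset.Congruence
import Cfsg.Agent.Fusion.Abelian

/-!
Existence of combinations of twisted diagonal coset spaces with right stable marks: scaled ones for any system,
and ones of `p'`-degree for saturated systems.
-/

set_option autoImplicit false
set_option linter.style.haveILetI false

open Cfsg

namespace CfsgLib.Biset

open Cfsg.FusionSystem CfsgLib.Fusion

universe u

variable {Ω : Type u} [Group Ω] {S : Subgroup Ω}

/-- Conjugacy of subgroups of `S × S`. -/
def conjSetoid (S : Subgroup Ω) : Setoid (Subgroup (S × S)) where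
  r H H' := ∃ a : S × S, H.map (MulAut.conj a).toMonoidHom = H'
  iseqv := by
    refine ⟨fun H => ⟨1, ?_⟩, ?_, ?_⟩
    · conv_rhs => rw [← Subgroup.map_id H]
      exact congrArg (fun f => Subgroup.map f H) (MonoidHom.ext fun x => by simp)
    · rintro H _ ⟨a, rfl⟩
      refine ⟨a⁻¹, ?_⟩
      rw [Subgroup.map_map]
      conv_rhs => rw [← Subgroup.map_id H]
      exact congrArg (fun f => Subgroup.map f H) (MonoidHom.ext fun x => by simp [mul_assoc])
    · rintro H _ _ ⟨a, rfl⟩ ⟨b, rfl⟩
      refine ⟨b * a, ?_⟩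
      rw [Subgroup.map_map]
      exact congrArg (fun f => Subgroup.map f H) (MonoidHom.ext fun x => by simp [mul_assoc])

/-- Conjugacy under `S` of subgroups of `Ω`. -/
def sConjSetoid (S : Subgroup Ω) : Setoid (Subgroup Ω) where
  r U V := ∃ a : S, U.map (MulAut.conj (a : Ω)).toMonoidHom = V
  iseqv := by
    refine ⟨fun H => ⟨1, ?_⟩, ?_, ?_⟩
    · conv_rhs => rw [← Subgroup.map_id H]
      exact congrArg (fun f => Subgroup.map f H) (MonoidHom.ext fun x => by simp)
    · rintro H _ ⟨a, rfl⟩
      refine ⟨a⁻¹, ?_⟩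
      rw [Subgroup.map_map]
      conv_rhs => rw [← Subgroup.map_id H]
      exact congrArg (fun f => Subgroup.map f H) (MonoidHom.ext fun x => by simp [mul_assoc])
    · rintro H _ _ ⟨a, rfl⟩ ⟨b, rfl⟩
      refine ⟨b * a, ?_⟩
      rw [Subgroup.map_map]
      exact congrArg (fun f => Subgroup.map f H) (MonoidHom.ext fun x => by simp [mul_assoc])

/-- The chosen member of the conjugacy class. -/
noncomputable def crep (H : Subgroup (S × S)) : Subgroup (S × S) :=
  Quotient.out (Quotient.mk (conjSetoid S) H)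

lemma exists_conj_crep (H : Subgroup (S × S)) : ∃ a : S × S, H.map (MulAut.conj a).toMonoidHom = crep H :=
  Quotient.exact (s := conjSetoid S) (Quotient.out_eq (Quotient.mk (conjSetoid S) H)).symm

lemma crep_eq {H : Subgroup (S × S)} {a : S × S} : crep (H.map (MulAut.conj a).toMonoidHom) = crep H :=
  congrArg Quotient.out (Quotient.sound (s := conjSetoid S) ⟨a, rfl⟩).symm

variable [Finite S] {F : Cfsg.FusionSystem S}

/-- Adding coset spaces of order `k` graphs makes the marks stable from `k` on. -/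
theorem exists_step {k : ℕ} (hk : 0 < k) {n : Subgroup (S × S) → ℕ} (hst : StableAbove F n k)
    (hbase : ∀ U : Subgroup Ω, Nat.card U = k → (∃ φ, φ ∈ F.Hom U) → ∃ φ₀ ∈ F.Hom U, ∀ φ ∈ F.Hom U,
      mark n (gsub φ) ≡ mark n (gsub φ₀) [MOD fix (gsub (S := S) φ) (gsub φ)]) :
    ∃ d : Subgroup (S × S) → ℕ, (∀ H, d H ≠ 0 → IsFGraph F H ∧ Nat.card H = k) ∧
      StableAbove F (n + d) (k - 1) := by
  classical
  letI : Fintype (Subgroup (S × S)) := Fintype.ofFinite _
  set N : ℕ := Nat.card (S × S) with hN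
  set B : ℕ := ∑ H : Subgroup (S × S), mark n H with hB
  -- a base for every class of first projections
  let urep : Subgroup Ω → Subgroup Ω := fun U => Quotient.out (Quotient.mk (sConjSetoid S) U)
  let baseR : Subgroup Ω → Subgroup (S × S) := fun R =>
    if h : Nat.card R = k ∧ ∃ φ, φ ∈ F.Hom R then gsub (Classical.choose (hbase _ h.1 h.2)) else ⊥
  let base : Subgroup Ω → Subgroup (S × S) := fun U => baseR (urep U)
  let T : Subgroup (S × S) → ℕ := fun H => mark n (base (fstU H)) + (B + 1) * N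
  -- the basic congruence
  have hcong : ∀ H, IsFGraph F H → Nat.card H = k →
      mark n H ≡ T H [MOD fix H H] ∧ mark n H ≤ T H := by
    intro H hH hHk
    refine ⟨?_, le_trans ?_ (Nat.le_add_left _ _)⟩
    · obtain ⟨a, ha⟩ : ∃ a : S, (fstU H).map (MulAut.conj (a : Ω)).toMonoidHom = urep (fstU H) :=
        Quotient.exact (s := sConjSetoid S) (Quotient.out_eq (Quotient.mk (sConjSetoid S) (fstU H))).symm
      obtain ⟨φ', hφ', he⟩ := hH.map_conj ((a, 1) : S × S)
      have hc : Nat.card ↥((fstU H).map (MulAut.conj (a : Ω)).toMonoidHom) = k := by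
        rw [← card_gsub hφ', ← he, Subgroup.card_map_of_injective (MulAut.conj ((a, 1) : S × S)).injective, hHk]
      have key : ∀ (V : Subgroup Ω) (χ : V →* Ω), V = urep (fstU H) → χ ∈ F.Hom V → Nat.card V = k →
          mark n (gsub χ) ≡ mark n (base (fstU H)) [MOD fix (gsub (S := S) χ) (gsub χ)] := by
        rintro V χ rfl hχ hVk
        have hh : Nat.card (urep (fstU H)) = k ∧ ∃ φ, φ ∈ F.Hom (urep (fstU H)) := ⟨hVk, χ, hχ⟩
        simp only [base, baseR, dif_pos hh]
        exact (Classical.choose_spec (hbase _ hh.1 hh.2)).2 χ hχ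
      have h1 := key _ φ' ha hφ' hc
      rw [← he, mark_conj, fix_map_conj_self] at h1
      have hW : fix H H ∣ (B + 1) * N := by
        refine Dvd.dvd.mul_left ?_ _
        refine Dvd.dvd.trans ⟨Nat.card H, ?_⟩ (Subgroup.card_subgroup_dvd_card (Subgroup.normalizer (H : Set (S × S))))
        rw [fix_self_mul_card]
      exact h1.trans ((Nat.modEq_zero_iff_dvd.2 hW).symm.add_left _)
    · calc mark n H ≤ B := Finset.single_le_sum (f := fun H => mark n H) (fun _ _ => Nat.zero_le _)
            (Finset.mem_univ H)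
        _ ≤ B + 1 := Nat.le_succ B
        _ ≤ (B + 1) * N := Nat.le_mul_of_pos_right _ Nat.card_pos
  let d : Subgroup (S × S) → ℕ := fun H =>
    if crep H = H ∧ IsFGraph F H ∧ Nat.card H = k then (T H - mark n H) / fix H H else 0
  have hd : ∀ H, d H ≠ 0 → crep H = H ∧ IsFGraph F H ∧ Nat.card H = k := fun H h => by
    by_contra hc
    exact h (if_neg hc)
  refine ⟨d, fun H h => (hd H h).2, fun U φ φ' hU hφ hφ' => ?_⟩
  rcases Nat.lt_or_ge k (Nat.card U) with hlt | hge
  · have hzero : ∀ χ : U →* Ω, χ ∈ F.Hom U → mark d (gsub χ) = 0 := fun χ hχ => by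
      rw [mark_eq]
      refine Finset.sum_eq_zero fun H₀ _ => ?_
      by_contra h
      obtain ⟨h1, h2⟩ := Nat.mul_ne_zero_iff.1 h
      obtain ⟨g, -, hg⟩ := le_card_of_fix_ne_zero h2
      rw [card_gsub hχ, (hd H₀ h1).2.2] at hg
      omega
    rw [mark_add, mark_add, hzero φ hφ, hzero φ' hφ', hst U φ φ' hlt hφ hφ']
  · have hUk : Nat.card U = k := by omega
    have hval : ∀ χ : U →* Ω, χ ∈ F.Hom U →
        mark (n + d) (gsub χ) = mark n (base U) + (B + 1) * N := by
      intro χ hχ
      set H := gsub (S := S) χ with hH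
      obtain ⟨a, ha⟩ := exists_conj_crep H
      set H₁ := crep H with hH₁
      have hG₁ : IsFGraph F H₁ := ha ▸ (isFGraph_gsub hχ).map_conj' a
      have hk₁ : Nat.card H₁ = k := by
        rw [← ha, Subgroup.card_map_of_injective (MulAut.conj a).injective, card_gsub hχ, hUk]
      have hr₁ : crep H₁ = H₁ := by rw [← ha, crep_eq, ha]
      have hsum : mark d H = d H₁ * fix H₁ H₁ := by
        rw [mark_eq, Finset.sum_eq_single H₁ (fun H₀ _ hne => ?_) (fun h => absurd (Finset.mem_univ _) h)]
        · rw [← ha, fix_conj]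
        · by_contra h
          obtain ⟨h1, h2⟩ := Nat.mul_ne_zero_iff.1 h
          obtain ⟨g, hg, -⟩ := le_card_of_fix_ne_zero h2
          have he : H.map (MulAut.conj g).toMonoidHom = H₀ := Subgroup.eq_of_le_of_card_ge hg (by
            rw [(hd H₀ h1).2.2, Subgroup.card_map_of_injective (MulAut.conj g).injective, card_gsub hχ, hUk])
          refine hne ?_
          rw [← (hd H₀ h1).1, ← he, crep_eq]
      obtain ⟨hc1, hc2⟩ := hcong H₁ hG₁ hk₁
      have hdvd : fix H₁ H₁ ∣ T H₁ - mark n H₁ := (Nat.modEq_iff_dvd' hc2).1 hc1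
      have hd₁ : d H₁ * fix H₁ H₁ = T H₁ - mark n H₁ := by
        simp only [d, if_pos (And.intro hr₁ (And.intro hG₁ hk₁))]
        exact Nat.div_mul_cancel hdvd
      have hT : T H₁ = mark n (base U) + (B + 1) * N := by
        have hu : urep (fstU H₁) = urep U := by
          rw [← ha, fstU_map_conj, fstU_gsub hχ]
          exact congrArg Quotient.out (Quotient.sound (s := sConjSetoid S) ⟨a.1, rfl⟩).symm
        simp only [T, base, hu]
      rw [mark_add, hsum, hd₁, ← hT]
      have : mark n H = mark n H₁ := by rw [← ha, mark_conj]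
      omega
    rw [hval φ hφ, hval φ' hφ']

/-- The degree of a combination. -/
noncomputable def degree (n : Subgroup (S × S) → ℕ) : ℕ := by
  classical
  exact
    letI : Fintype (Subgroup (S × S)) := Fintype.ofFinite _
    ∑ H, n H * (Nat.card S / Nat.card H)

lemma degree_eq [Fintype (Subgroup (S × S))] (n : Subgroup (S × S) → ℕ) :
    degree n = ∑ H, n H * (Nat.card S / Nat.card H) := by
  unfold degree
  exact Finset.sum_congr (Finset.ext fun _ => by simp) fun _ _ => rfl

/-- The marks are stable. -/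
def IsStable (F : Cfsg.FusionSystem S) (n : Subgroup (S × S) → ℕ) : Prop :=
  ∀ (U : Subgroup Ω) (φ φ' : U →* Ω), φ ∈ F.Hom U → φ' ∈ F.Hom U → mark n (gsub φ) = mark n (gsub φ')

/-- Any system: stable marks, with the diagonal occurring. -/
theorem exists_stable_scaled (F : Cfsg.FusionSystem S) :
    ∃ n : Subgroup (S × S) → ℕ, (∀ H, n H ≠ 0 → IsFGraph F H) ∧ IsStable F n ∧
      n (gsub (S := S) S.subtype) ≠ 0 := by
  classical
  have key : ∀ j, j ≤ Nat.card S → ∃ n : Subgroup (S × S) → ℕ, (∀ H, n H ≠ 0 → IsFGraph F H) ∧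
      StableAbove F n (Nat.card S - j) ∧ n (gsub (S := S) S.subtype) ≠ 0 := by
    intro j
    induction j with
    | zero =>
      intro _
      refine ⟨fun H => if H = gsub (S := S) S.subtype then 1 else 0, fun H h => ?_, fun U φ φ' hU hφ _ => ?_,
        by simp⟩
      · dsimp only at h
        split_ifs at h with hH
        · exact ⟨S, S.subtype, subtype_mem le_rfl, hH⟩
        · exact absurd rfl h
      · have := Subgroup.card_le_of_le (le_of_hom hφ)
        omega
    | succ j ih =>
      intro hj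
      obtain ⟨n, hn, hst, hne⟩ := ih (by omega)
      set c := Nat.card (S × S) with hc
      obtain ⟨d, hd, hd'⟩ := exists_step (F := F) (k := Nat.card S - j) (n := c • n) (by omega)
        (fun U φ φ' hU hφ hφ' => by rw [mark_smul, mark_smul, hst U φ φ' hU hφ hφ'])
        fun U hU ⟨φ₀, hφ₀⟩ => ⟨φ₀, hφ₀, fun φ hφ => by
          have hW : fix (gsub (S := S) φ) (gsub φ) ∣ c := by
            refine Dvd.dvd.trans ⟨Nat.card (gsub (S := S) φ), ?_⟩
              (Subgroup.card_subgroup_dvd_card (Subgroup.normalizer (gsub (S := S) φ : Set (S × S))))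
            rw [fix_self_mul_card]
          rw [mark_smul, mark_smul]
          exact (Nat.modEq_zero_iff_dvd.2 (hW.mul_right _)).trans (Nat.modEq_zero_iff_dvd.2 (hW.mul_right _)).symm⟩
      refine ⟨c • n + d, fun H h => ?_, by rwa [← Nat.sub_sub] , ?_⟩
      · by_cases h0 : d H = 0
        · refine hn H fun h1 => h ?_
          simp [h0, h1]
        · exact (hd H h0).1
      · simp only [Pi.add_apply, Pi.smul_apply, smul_eq_mul]
        exact Nat.ne_of_gt (Nat.add_pos_left (Nat.mul_pos Nat.card_pos (Nat.pos_of_ne_zero hne)) _)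
  obtain ⟨n, hn, hst, hne⟩ := key (Nat.card S) le_rfl
  refine ⟨n, hn, fun U φ φ' hφ hφ' => hst U φ φ' ?_ hφ hφ', hne⟩
  haveI := finite_of_le (le_of_hom hφ)
  rw [Nat.sub_self]
  exact Nat.card_pos

/-- The top layer: one coset space for each outer automorphism. -/
theorem exists_top {p : ℕ} [Fact p.Prime] (hS : IsPGroup p S) (hF : F.IsSaturated p) :
    ∃ n : Subgroup (S × S) → ℕ, (∀ H, n H ≠ 0 → IsFGraph F H) ∧ StableAbove F n (Nat.card S - 1) ∧
      ¬ p ∣ degree n := by
  classical
  haveI := finite_mulAut (S := S) (le_refl S)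
  haveI hInn : (Cfsg.Inn S).Normal := inn_normal
  set A := F.autGroup S with hA
  haveI : ((Cfsg.Inn S).subgroupOf A).Normal := inn_subgroupOf_normal A
  haveI : Fintype (A ⧸ (Cfsg.Inn S).subgroupOf A) := Fintype.ofFinite _
  letI : Fintype (Subgroup (S × S)) := Fintype.ofFinite _
  let g : MulAut S → Subgroup (S × S) := fun α => gsub (S.subtype.comp α.toMonoidHom)
  have hmem : ∀ α : A, S.subtype.comp (α : MulAut S).toMonoidHom ∈ F.Hom S := fun α => (mem_autGroup le_rfl).1 α.2
  have hgc : ∀ α : A, Nat.card (g α) = Nat.card S := fun α => card_gsub (hmem α)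
  let H₁ : A ⧸ (Cfsg.Inn S).subgroupOf A → Subgroup (S × S) := fun q => g ((q.out : A) : MulAut S)
  -- conjugate graphs give equal cosets
  have hconj : ∀ (α β : A) (a : S × S), (g β).map (MulAut.conj a).toMonoidHom = g α →
      (QuotientGroup.mk α : A ⧸ (Cfsg.Inn S).subgroupOf A) = QuotientGroup.mk β := by
    intro α β a hab
    have h1 : (α : MulAut S) = MulAut.conj a.2 * (β : MulAut S) * (MulAut.conj a.1)⁻¹ := by
      refine MulEquiv.ext fun x => ?_
      obtain ⟨z, ⟨hz, hze⟩, hzx⟩ := hab.ge (gpt_mem (hmem α) x)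
      have e1 : a.1 * z.1 * a.1⁻¹ = x := congrArg Prod.fst hzx
      have e2 : a.2 * z.2 * a.2⁻¹ = (α : MulAut S) x := congrArg Prod.snd hzx
      have e3 : (β : MulAut S) z.1 = z.2 := Subtype.ext hze
      rw [← e2, ← e3, ← e1]
      simp [mul_assoc]
    refine QuotientGroup.eq.2 ?_
    show ((α⁻¹ * β : A) : MulAut S) ∈ Cfsg.Inn S
    rw [Subgroup.coe_mul, Subgroup.coe_inv, h1]
    have hi : ∀ z : S, MulAut.conj z ∈ Cfsg.Inn S := fun z => ⟨z, rfl⟩
    have e : (MulAut.conj a.2 * (β : MulAut S) * (MulAut.conj a.1)⁻¹)⁻¹ * β =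
        MulAut.conj a.1 * ((β : MulAut S)⁻¹ * (MulAut.conj a.2)⁻¹ * (β : MulAut S)⁻¹⁻¹) := by group
    rw [e]
    exact (Cfsg.Inn S).mul_mem (hi _) (hInn.conj_mem _ ((Cfsg.Inn S).inv_mem (hi _)) _)
  have hWeyl : ∀ α : A, fix (g α) (g α) = fix (gsub (S := S) S.subtype) (gsub S.subtype) := by
    intro α
    have h1 := fix_self_mul_card (g α)
    have h2 := fix_self_mul_card (gsub (S := S) S.subtype)
    have hid : Nat.card (gsub (S := S) S.subtype) = Nat.card S := card_gsub (subtype_mem (F := F) le_rfl)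
    rw [hgc α] at h1
    rw [hid] at h2
    let Ψ : S × S ≃* S × S := (MulEquiv.refl S).prodCongr (α : MulAut S)
    have hmap : (gsub (S := S) S.subtype).map Ψ.toMonoidHom = g α := by
      refine le_antisymm ?_ fun x hx => ?_
      · rintro _ ⟨x, ⟨hx, he⟩, rfl⟩
        refine ⟨x.1.2, ?_⟩
        show (((α : MulAut S) _ : S) : Ω) = (((α : MulAut S) x.2 : S) : Ω)
        exact congrArg (fun z => (((α : MulAut S) z : S) : Ω)) (Subtype.ext he)
      · obtain ⟨hx, he⟩ := hx
        exact ⟨(x.1, x.1), ⟨x.1.2, rfl⟩, Prod.ext rfl (Subtype.ext he)⟩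
    have hN := Subgroup.map_equiv_normalizer_eq (gsub (S := S) S.subtype) Ψ
    rw [hmap] at hN
    rw [← hN, Subgroup.card_map_of_injective Ψ.injective, ← h2] at h1
    exact Nat.eq_of_mul_eq_mul_right Nat.card_pos h1
  let n : Subgroup (S × S) → ℕ := fun H => (Finset.univ.filter fun q => H₁ q = H).card
  have hn : ∀ H, n H ≠ 0 → ∃ q, H₁ q = H := fun H h => by
    obtain ⟨q, hq⟩ := Finset.card_pos.1 (Nat.pos_of_ne_zero h)
    exact ⟨q, (Finset.mem_filter.1 hq).2⟩
  have hsum : ∀ f : Subgroup (S × S) → ℕ, ∑ H, n H * f H = ∑ q, f (H₁ q) := by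
    intro f
    rw [← Finset.sum_fiberwise Finset.univ H₁ (fun q => f (H₁ q))]
    refine Finset.sum_congr rfl fun H _ => ?_
    rw [Finset.sum_congr rfl (g := fun _ => f H) fun q hq => by rw [(Finset.mem_filter.1 hq).2],
      Finset.sum_const, smul_eq_mul]
  refine ⟨n, fun H h => ?_, fun U φ φ' hU hφ hφ' => ?_, ?_⟩
  · obtain ⟨q, rfl⟩ := hn H h
    exact isFGraph_gsub (hmem _)
  · have hUS : U = S := by
      haveI := finite_of_le (le_of_hom hφ)
      refine Subgroup.eq_of_le_of_card_ge (le_of_hom hφ) ?_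
      omega
    subst hUS
    have hval : ∀ χ : U →* Ω, χ ∈ F.Hom U →
        mark n (gsub χ) = fix (gsub (S := U) U.subtype) (gsub U.subtype) := by
      intro χ hχ
      obtain ⟨α, hα, hαχ⟩ := CfsgLib.Fusion.exists_mulAut_of_hom_self hχ
      have hg : gsub (S := U) χ = g α := gsub_congr fun x => (hαχ x).symm
      rw [mark_eq, hsum fun H₀ => fix H₀ (gsub χ),
        Finset.sum_eq_single (QuotientGroup.mk (⟨α, hα⟩ : A))]
      · rw [hg]
        obtain ⟨δ, hδ⟩ := QuotientGroup.mk_out_eq_mul ((Cfsg.Inn U).subgroupOf A) ⟨α, hα⟩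
        obtain ⟨z, hz⟩ : ((δ : A) : MulAut U) ∈ Cfsg.Inn U := δ.2
        set β : A := (QuotientGroup.mk (⟨α, hα⟩ : A) : A ⧸ (Cfsg.Inn U).subgroupOf A).out with hβ
        have hβα : g α = (g β).map (MulAut.conj ((z, 1) : U × U)).toMonoidHom := by
          have hb : (β : MulAut U) = α * MulAut.conj z := by
            rw [hδ, Subgroup.coe_mul, ← hz]
          refine le_antisymm (fun x hx => ?_) ?_
          · obtain ⟨hx1, hx2⟩ := hx
            refine ⟨((z⁻¹ * x.1 * z : U), x.2), ⟨(z⁻¹ * x.1 * z : U).2, ?_⟩, ?_⟩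
            · show (((β : MulAut U) (z⁻¹ * x.1 * z) : U) : Ω) = x.2
              rw [hb, ← hx2]
              simp [mul_assoc]
            · exact Prod.ext (by simp [mul_assoc]) (by simp)
          · rintro _ ⟨y, ⟨hy1, hy2⟩, rfl⟩
            refine ⟨(z * y.1 * z⁻¹ : U).2, ?_⟩
            show ((α (z * y.1 * z⁻¹) : U) : Ω) = ((1 * y.2 * 1⁻¹ : U) : Ω)
            rw [inv_one, mul_one, one_mul, ← hy2]
            show ((α (z * y.1 * z⁻¹) : U) : Ω) = (((β : MulAut U) y.1 : U) : Ω)
            rw [hb]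
            simp
        show fix (g β) (g α) = _
        rw [hβα, fix_conj, hWeyl]
      · intro q _ hq
        by_contra h
        obtain ⟨a, ha, -⟩ := le_card_of_fix_ne_zero h
        apply hq
        rw [hg] at ha
        have he : (g α).map (MulAut.conj a).toMonoidHom = g (q.out : A) :=
          Subgroup.eq_of_le_of_card_ge ha (by
            rw [Subgroup.card_map_of_injective (MulAut.conj a).injective, hgc ⟨α, hα⟩, hgc])
        rw [← hconj q.out ⟨α, hα⟩ a he]
        exact (Quotient.out_eq' q).symm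
      · exact fun h => absurd (Finset.mem_univ _) h
    rw [hval φ hφ, hval φ' hφ']
  · rw [degree_eq, hsum fun H => Nat.card S / Nat.card H, Finset.sum_congr rfl (g := fun _ => 1)
      fun q _ => by rw [hgc, Nat.div_self Nat.card_pos]]
    rw [Finset.sum_const, smul_eq_mul, mul_one, Finset.card_univ, ← Nat.card_eq_fintype_card]
    obtain ⟨-, R, hR⟩ := fullyAutomized_of_fullyNormalized hS hF (isFullyNormalized_self F)
    rw [autInducedBy_self] at hR
    have := R.not_dvd_index
    rwa [hR, Subgroup.index_eq_card] at this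

/-- A saturated system: stable marks of degree prime to `p`. -/
theorem exists_stable {p : ℕ} [Fact p.Prime] (hS : IsPGroup p S) (hF : F.IsSaturated p) :
    ∃ n : Subgroup (S × S) → ℕ, (∀ H, n H ≠ 0 → IsFGraph F H) ∧ IsStable F n ∧ ¬ p ∣ degree n := by
  classical
  have key : ∀ j, 1 ≤ j → j ≤ Nat.card S → ∃ n : Subgroup (S × S) → ℕ, (∀ H, n H ≠ 0 → IsFGraph F H) ∧
      StableAbove F n (Nat.card S - j) ∧ ¬ p ∣ degree n := by
    intro j hj1
    induction j, hj1 using Nat.le_induction with
    | base => exact fun _ => exists_top hS hF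
    | succ j hj1 ih =>
      intro hj
      obtain ⟨n, hn, hst, hdeg⟩ := ih (by omega)
      obtain ⟨d, hd, hd'⟩ := exists_step (F := F) (k := Nat.card S - j) (by omega) hst
        fun U hU ⟨φ, hφ⟩ => exists_base_congr hS hF hn hst (le_of_hom hφ) hU
      refine ⟨n + d, fun H h => ?_, by rwa [← Nat.sub_sub], fun hdvd => hdeg ?_⟩
      · by_cases h0 : d H = 0
        · refine hn H fun h1 => h ?_
          simp [h0, h1]
        · exact (hd H h0).1
      · letI : Fintype (Subgroup (S × S)) := Fintype.ofFinite _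
        have hsplit : degree (n + d) = degree n + degree d := by
          rw [degree_eq, degree_eq, degree_eq, ← Finset.sum_add_distrib]
          exact Finset.sum_congr rfl fun H _ => Nat.add_mul _ _ _
        have hpd : p ∣ degree d := by
          rw [degree_eq]
          refine Finset.dvd_sum fun H _ => ?_
          by_cases h0 : d H = 0
          · simp [h0]
          refine dvd_mul_of_dvd_right ?_ _
          obtain ⟨hG, hcard⟩ := hd H h0
          obtain ⟨U, φ, hφ, rfl⟩ := hG
          have hUS := le_of_hom hφ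
          obtain ⟨a, ha⟩ := IsPGroup.iff_card.1 hS
          haveI := finite_of_le hUS
          obtain ⟨b, hb⟩ := IsPGroup.iff_card.1 (hS.to_le hUS)
          rw [card_gsub hφ] at hcard ⊢
          rw [ha, hb] at hcard
          rw [ha, hb]
          have hlt : b < a := by
            by_contra hc
            have := Nat.pow_le_pow_right (Fact.out : p.Prime).pos (not_lt.1 hc)
            have h1 : p ^ a ≥ 1 := Nat.one_le_pow _ _ (Fact.out : p.Prime).pos
            omega
          rw [Nat.pow_div hlt.le (Fact.out : p.Prime).pos]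
          exact dvd_pow_self p (by omega)
        rwa [hsplit, Nat.dvd_add_left hpd] at hdvd
  obtain ⟨n, hn, hst, hdeg⟩ := key (Nat.card S) Nat.card_pos le_rfl
  refine ⟨n, hn, fun U φ φ' hφ hφ' => hst U φ φ' ?_ hφ hφ', hdeg⟩
  haveI := finite_of_le (le_of_hom hφ)
  rw [Nat.sub_self]
  exact Nat.card_pos

end CfsgLib.Biset
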