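import Cfsg.Agent.Fusion.Biset.Marks
import Cfsg.Agent.Fusion.KNormalizer

/-!
Twisted diagonal subgroups of `S × S` of maps of a fusion system, and the marks of a combination of their coset
spaces.
-/

set_option autoImplicit false
set_option linter.style.haveILetI false

open Cfsg

namespace CfsgLib.Biset

open Cfsg.FusionSystem CfsgLib.Fusion

universe u

variable {Ω : Type u} [Group Ω] {S : Subgroup Ω} {F : Cfsg.FusionSystem S} {U : Subgroup Ω}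

/-- The graph of a map, inside `S × S`. -/
def gsub {U : Subgroup Ω} (φ : U →* Ω) : Subgroup (S × S) where
  carrier := {x | ∃ h : (x.1 : Ω) ∈ U, φ ⟨x.1, h⟩ = (x.2 : Ω)}
  one_mem' := ⟨U.one_mem, map_one φ⟩
  mul_mem' := by
    rintro a b ⟨ha, ha'⟩ ⟨hb, hb'⟩
    refine ⟨U.mul_mem ha hb, ?_⟩
    show φ (⟨a.1, ha⟩ * ⟨b.1, hb⟩) = (a.2 : Ω) * b.2
    rw [map_mul, ha', hb']
  inv_mem' := by
    rintro a ⟨ha, ha'⟩
    refine ⟨U.inv_mem ha, ?_⟩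
    show φ (⟨a.1, ha⟩⁻¹) = (a.2 : Ω)⁻¹
    rw [map_inv, ha']

lemma mem_gsub {φ : U →* Ω} {x : S × S} :
    x ∈ gsub (S := S) φ ↔ ∃ h : (x.1 : Ω) ∈ U, φ ⟨x.1, h⟩ = (x.2 : Ω) := Iff.rfl

lemma gsub_congr {φ φ' : U →* Ω} (h : ∀ u, φ u = φ' u) : gsub (S := S) φ = gsub φ' := by
  rw [MonoidHom.ext h]

/-- The point of the graph over `u`. -/
def gpt {φ : U →* Ω} (hφ : φ ∈ F.Hom U) (u : U) : S × S := (⟨u, le_of_hom hφ u.2⟩, ⟨φ u, val_mem hφ u⟩)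

lemma gpt_mem {φ : U →* Ω} (hφ : φ ∈ F.Hom U) (u : U) : gpt hφ u ∈ gsub (S := S) φ := ⟨u.2, rfl⟩

lemma card_gsub {φ : U →* Ω} (hφ : φ ∈ F.Hom U) : Nat.card (gsub (S := S) φ) = Nat.card U := by
  refine (Nat.card_congr (Equiv.ofBijective (fun u : U => (⟨gpt hφ u, gpt_mem hφ u⟩ : gsub (S := S) φ))
    ⟨fun a b h => Subtype.ext ?_, fun x => ?_⟩)).symm
  · exact congrArg (fun z : gsub (S := S) φ => (((z : S × S).1 : S) : Ω)) h
  · obtain ⟨⟨a, b⟩, ha, hab⟩ := x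
    exact ⟨⟨a, ha⟩, Subtype.ext (Prod.ext rfl (Subtype.ext hab))⟩

/-- The twisted diagonal subgroups of the maps of the system. -/
def IsFGraph (F : Cfsg.FusionSystem S) (H : Subgroup (S × S)) : Prop :=
  ∃ (U : Subgroup Ω) (φ : U →* Ω), φ ∈ F.Hom U ∧ H = gsub φ

lemma isFGraph_gsub {φ : U →* Ω} (hφ : φ ∈ F.Hom U) : IsFGraph F (gsub (S := S) φ) := ⟨U, φ, hφ, rfl⟩

lemma IsFGraph.mono {H H' : Subgroup (S × S)} (h : IsFGraph F H) (hle : H' ≤ H) : IsFGraph F H' := by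
  obtain ⟨U, φ, hφ, rfl⟩ := h
  set U' : Subgroup Ω := (H'.map (MonoidHom.fst S S)).map S.subtype with hU'
  have hU : U' ≤ U := by
    rintro _ ⟨_, ⟨x, hx, rfl⟩, rfl⟩
    exact (hle hx).1
  refine ⟨U', φ.comp (Subgroup.inclusion hU), restrict hφ hU, le_antisymm (fun x hx => ?_) ?_⟩
  · exact ⟨⟨_, ⟨x, hx, rfl⟩, rfl⟩, (hle hx).2⟩
  · rintro x ⟨hx1, hx2⟩
    obtain ⟨_, ⟨y, hy, rfl⟩, he⟩ := id hx1
    have h1 : y.1 = x.1 := Subtype.ext he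
    obtain ⟨hy1, hy2⟩ := hle hy
    have h2 : y.2 = x.2 := Subtype.ext (hy2.symm.trans (Eq.trans (congrArg φ (Subtype.ext he : (⟨(y.1 : Ω), hy1⟩ : U) = ⟨(x.1 : Ω), hU hx1⟩)) hx2))
    rwa [show y = x from Prod.ext h1 h2] at hy

/-- The first projection of a graph. -/
def fstU (H : Subgroup (S × S)) : Subgroup Ω := (H.map (MonoidHom.fst S S)).map S.subtype

lemma fstU_gsub {φ : U →* Ω} (hφ : φ ∈ F.Hom U) : fstU (gsub (S := S) φ) = U := by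
  refine le_antisymm ?_ fun u hu => ⟨_, ⟨_, gpt_mem hφ ⟨u, hu⟩, rfl⟩, rfl⟩
  rintro _ ⟨_, ⟨x, hx, rfl⟩, rfl⟩
  exact hx.1

lemma fstU_map_conj (H : Subgroup (S × S)) (a : S × S) :
    fstU (H.map (MulAut.conj a).toMonoidHom) = (fstU H).map (MulAut.conj (a.1 : Ω)).toMonoidHom := by
  simp only [fstU, Subgroup.map_map]
  exact congrArg (fun f => Subgroup.map f H) (MonoidHom.ext fun x => rfl)

/-- Left composition with a map. -/
lemma map_right_gsub {φ : U →* Ω} {E : Subgroup Ω} {ψ : E →* Ω} (hφ : φ ∈ F.Hom U) (hψ : ψ ∈ F.Hom E)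
    (h : ∀ u, φ u ∈ E) {x : S × S} :
    x ∈ gsub (S := S) (ψ.comp (φ.codRestrict E h)) ↔
      ∃ y ∈ gsub (S := S) φ, ∃ hy : (y.2 : Ω) ∈ E, x.1 = y.1 ∧ ψ ⟨y.2, hy⟩ = (x.2 : Ω) := by
  constructor
  · rintro ⟨hx, he⟩
    exact ⟨(x.1, ⟨φ ⟨x.1, hx⟩, val_mem hφ _⟩), ⟨hx, rfl⟩, h _, rfl, he⟩
  · rintro ⟨y, ⟨hy1, hy2⟩, hy, h1, h2⟩
    refine ⟨h1 ▸ hy1, Eq.trans ?_ h2⟩
    refine congrArg ψ (Subtype.ext ?_)
    show φ _ = _
    exact (congrArg φ (Subtype.ext (congrArg Subtype.val h1 : (x.1 : Ω) = y.1) :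
      (⟨(x.1 : Ω), h1 ▸ hy1⟩ : U) = ⟨(y.1 : Ω), hy1⟩)).trans hy2

lemma IsFGraph.map_conj {H : Subgroup (S × S)} (h : IsFGraph F H) (a : S × S) :
    ∃ (φ' : ↥((fstU H).map (MulAut.conj (a.1 : Ω)).toMonoidHom) →* Ω),
      φ' ∈ F.Hom _ ∧ H.map (MulAut.conj a).toMonoidHom = gsub φ' := by
  obtain ⟨U, φ, hφ, rfl⟩ := h
  rw [fstU_gsub hφ]
  set U' := U.map (MulAut.conj (a.1 : Ω)).toMonoidHom with hU'
  have hU'S : U' ≤ S := by
    rintro _ ⟨u, hu, rfl⟩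
    exact S.mul_mem (S.mul_mem a.1.2 (le_of_hom hφ hu)) (S.inv_mem a.1.2)
  have h1 : ∀ v : U', conjHom U' (a.1 : Ω)⁻¹ v ∈ U := by
    rintro ⟨_, u, hu, rfl⟩
    show (a.1 : Ω)⁻¹ * ((a.1 : Ω) * u * (a.1 : Ω)⁻¹) * ((a.1 : Ω)⁻¹)⁻¹ ∈ U
    simpa [mul_assoc] using hu
  set φ₁ : U' →* Ω := φ.comp ((conjHom U' (a.1 : Ω)⁻¹).codRestrict U h1)
  have hφ₁ : φ₁ ∈ F.Hom U' := F.comp_mem (F.conj_mem hU'S (S.inv_mem a.1.2)) hφ h1
  set φ' : U' →* Ω := (conjHom S (a.2 : Ω)).comp (φ₁.codRestrict S (val_mem hφ₁)) with hφ'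
  refine ⟨φ', F.comp_mem hφ₁ (F.conj_mem le_rfl a.2.2) _, le_antisymm ?_ ?_⟩
  · rintro _ ⟨x, ⟨hx, he⟩, rfl⟩
    refine ⟨⟨x.1, hx, rfl⟩, ?_⟩
    show (a.2 : Ω) * φ ⟨_, _⟩ * (a.2 : Ω)⁻¹ = (a.2 : Ω) * x.2 * (a.2 : Ω)⁻¹
    rw [← he]
    refine congrArg (fun z => (a.2 : Ω) * z * (a.2 : Ω)⁻¹) (congrArg φ (Subtype.ext ?_))
    show (a.1 : Ω)⁻¹ * ((a.1 : Ω) * x.1 * (a.1 : Ω)⁻¹) * ((a.1 : Ω)⁻¹)⁻¹ = x.1
    group
  · rintro x ⟨hx, he⟩
    refine ⟨a⁻¹ * x * a, ⟨?_, ?_⟩, by simp [mul_assoc]⟩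
    · simpa [conjHom] using h1 ⟨_, hx⟩
    · have he' : (a.2 : Ω) * φ₁ ⟨x.1, hx⟩ * (a.2 : Ω)⁻¹ = x.2 := he
      show φ _ = (a.2 : Ω)⁻¹ * x.2 * a.2
      rw [← he']
      have hg : ∀ c z : Ω, c⁻¹ * (c * z * c⁻¹) * c = z := fun c z => by group
      rw [hg]
      refine (congrArg φ (Subtype.ext ?_) : _ = φ₁ ⟨x.1, hx⟩)
      show (a.1 : Ω)⁻¹ * x.1 * a.1 = (a.1 : Ω)⁻¹ * x.1 * ((a.1 : Ω)⁻¹)⁻¹
      rw [inv_inv]

lemma IsFGraph.map_conj' {H : Subgroup (S × S)} (h : IsFGraph F H) (a : S × S) :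
    IsFGraph F (H.map (MulAut.conj a).toMonoidHom) := by
  obtain ⟨φ', hφ', he⟩ := h.map_conj a
  exact ⟨_, φ', hφ', he⟩

/-! ### Marks -/

variable [Finite S]

/-- The number of fixed points of `H` on the disjoint union of `n H₀` copies of each `(S × S) ⧸ H₀`. -/
noncomputable def mark (n : Subgroup (S × S) → ℕ) (H : Subgroup (S × S)) : ℕ := by
  classical
  exact
    letI : Fintype (Subgroup (S × S)) := Fintype.ofFinite _
    ∑ H₀, n H₀ * fix H₀ H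

lemma mark_eq [Fintype (Subgroup (S × S))] (n : Subgroup (S × S) → ℕ) (H : Subgroup (S × S)) :
    mark n H = ∑ H₀, n H₀ * fix H₀ H := by
  unfold mark
  exact Finset.sum_congr (Finset.ext fun _ => by simp) fun _ _ => rfl

lemma mark_conj (n : Subgroup (S × S) → ℕ) (H : Subgroup (S × S)) (a : S × S) :
    mark n (H.map (MulAut.conj a).toMonoidHom) = mark n H := by
  classical
  letI : Fintype (Subgroup (S × S)) := Fintype.ofFinite _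
  rw [mark_eq, mark_eq]
  simp only [fix_conj]

lemma mark_add (n m : Subgroup (S × S) → ℕ) (H : Subgroup (S × S)) :
    mark (n + m) H = mark n H + mark m H := by
  classical
  letI : Fintype (Subgroup (S × S)) := Fintype.ofFinite _
  rw [mark_eq, mark_eq, mark_eq, ← Finset.sum_add_distrib]
  exact Finset.sum_congr rfl fun _ _ => Nat.add_mul _ _ _

lemma mark_smul (c : ℕ) (n : Subgroup (S × S) → ℕ) (H : Subgroup (S × S)) :
    mark (c • n) H = c * mark n H := by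
  classical
  letI : Fintype (Subgroup (S × S)) := Fintype.ofFinite _
  rw [mark_eq, mark_eq, Finset.mul_sum]
  exact Finset.sum_congr rfl fun _ _ => by simp [mul_assoc]

/-- Only graphs of the system can fix a point. -/
lemma mark_eq_zero {n : Subgroup (S × S) → ℕ} (hn : ∀ H, n H ≠ 0 → IsFGraph F H) {H : Subgroup (S × S)}
    (hH : ¬ IsFGraph F H) : mark n H = 0 := by
  classical
  letI : Fintype (Subgroup (S × S)) := Fintype.ofFinite _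
  rw [mark_eq]
  refine Finset.sum_eq_zero fun H₀ _ => ?_
  by_contra h
  obtain ⟨hn0, hf⟩ := Nat.mul_ne_zero_iff.1 h
  obtain ⟨g, hg, -⟩ := le_card_of_fix_ne_zero hf
  have h1 := ((hn H₀ hn0).mono hg).map_conj' g⁻¹
  rw [Subgroup.map_map] at h1
  apply hH
  convert h1 using 1
  conv_lhs => rw [← Subgroup.map_id H]
  exact congrArg (fun f => Subgroup.map f H) (MonoidHom.ext fun x => by simp [mul_assoc])

end CfsgLib.Biset
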