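import Mathlib

/-!
Burnside's theorem on marks: finite sets with an action of a finite group are isomorphic when every subgroup fixes
equally many points in each; numbers of points of coset spaces fixed by a subgroup.
-/

set_option autoImplicit false

namespace CfsgLib.Biset

variable {K : Type*} [Group K]

section Iso

universe v

variable {X Y : Type v} [MulAction K X] [MulAction K Y]

open MulAction

/-- Burnside's theorem on marks, for invariant finite subsets. -/
theorem exists_bijOn_of_marks [Finite K] (n : ℕ) : ∀ (s : Set X) (t : Set Y), s.Finite → t.Finite →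
    s.ncard ≤ n → (∀ g : K, ∀ x ∈ s, g • x ∈ s) → (∀ g : K, ∀ y ∈ t, g • y ∈ t) →
    (∀ H : Subgroup K, {x ∈ s | ∀ h ∈ H, h • x = x}.ncard = {y ∈ t | ∀ h ∈ H, h • y = y}.ncard) →
    ∃ f : s ≃ t, ∀ (g : K) (x x' : s), g • (x : X) = x' → g • ((f x : t) : Y) = f x' := by
  classical
  induction n with
  | zero =>
    intro s t hs ht hn _ _ hm
    have hs0 : s = ∅ := (Set.ncard_eq_zero hs).1 (Nat.le_zero.1 hn)
    have ht0 : t = ∅ := by
      have := hm ⊥
      simp [hs0] at this
      exact (Set.ncard_eq_zero ht).1 this.symm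
    subst hs0; subst ht0
    exact ⟨⟨fun x => x.2.elim, fun y => y.2.elim, fun x => x.2.elim, fun y => y.2.elim⟩, fun g x => x.2.elim⟩
  | succ n ih =>
    intro s t hs ht hn hsi hti hm
    rcases Nat.lt_or_ge s.ncard (n + 1) with hlt | hge
    · exact ih s t hs ht (Nat.lt_succ_iff.1 hlt) hsi hti hm
    have hne : s.Nonempty := Set.nonempty_of_ncard_ne_zero (by omega)
    obtain ⟨x₀, hx₀, hmax⟩ := Set.exists_max_image s (fun x => Nat.card (stabilizer K x)) hs hne
    set K₀ := stabilizer K x₀ with hK₀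
    obtain ⟨y₀, hy₀, hy₀K⟩ : ∃ y ∈ t, K₀ ≤ stabilizer K y := by
      have h1 : {x ∈ s | ∀ h ∈ K₀, h • x = x}.Nonempty := ⟨x₀, hx₀, fun h hh => hh⟩
      have h2 := (Set.ncard_pos (hs.subset (Set.sep_subset _ _))).2 h1
      rw [hm] at h2
      obtain ⟨y, hy, hyK⟩ := (Set.ncard_pos (ht.subset (Set.sep_subset _ _))).1 h2
      exact ⟨y, hy, hyK⟩
    have hstab : stabilizer K y₀ = K₀ := by
      refine le_antisymm ?_ hy₀K
      have h1 : {y ∈ t | ∀ h ∈ stabilizer K y₀, h • y = y}.Nonempty := ⟨y₀, hy₀, fun h hh => hh⟩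
      have h2 := (Set.ncard_pos (ht.subset (Set.sep_subset _ _))).2 h1
      rw [← hm] at h2
      obtain ⟨x, hx, hxK⟩ := (Set.ncard_pos (hs.subset (Set.sep_subset _ _))).1 h2
      have hle : stabilizer K y₀ ≤ stabilizer K x := hxK
      exact (Subgroup.eq_of_le_of_card_ge hy₀K ((Subgroup.card_le_of_le hle).trans (hmax x hx))).ge
    have hiff : ∀ g g' : K, g • x₀ = g' • x₀ ↔ g • y₀ = g' • y₀ := fun g g' => by
      have h1 : g • x₀ = g' • x₀ ↔ g'⁻¹ * g ∈ K₀ := by
        rw [hK₀, mem_stabilizer_iff, mul_smul, inv_smul_eq_iff]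
      have h2 : g • y₀ = g' • y₀ ↔ g'⁻¹ * g ∈ K₀ := by
        rw [← hstab, mem_stabilizer_iff, mul_smul, inv_smul_eq_iff]
      exact h1.trans h2.symm
    set O := orbit K x₀ with hO
    set O' := orbit K y₀ with hO'
    have hOs : O ⊆ s := by rintro _ ⟨g, rfl⟩; exact hsi g _ hx₀
    have hOt : O' ⊆ t := by rintro _ ⟨g, rfl⟩; exact hti g _ hy₀
    let e₀ : O ≃ O' :=
      { toFun := fun x => ⟨Classical.choose x.2 • y₀, mem_orbit _ _⟩
        invFun := fun y => ⟨Classical.choose y.2 • x₀, mem_orbit _ _⟩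
        left_inv := fun x => by
          apply Subtype.ext
          refine Eq.trans ?_ (Classical.choose_spec x.2)
          exact (hiff _ _).2 (Classical.choose_spec (mem_orbit y₀ (Classical.choose x.2) : _ ∈ orbit K y₀))
        right_inv := fun y => by
          apply Subtype.ext
          refine Eq.trans ?_ (Classical.choose_spec y.2)
          exact (hiff _ _).1 (Classical.choose_spec (mem_orbit x₀ (Classical.choose y.2) : _ ∈ orbit K x₀)) }
    have he₀ : ∀ (g : K) (x : O), g • x₀ = (x : X) → ((e₀ x : O') : Y) = g • y₀ := fun g x hg =>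
      (hiff _ _).1 ((Classical.choose_spec x.2).trans hg.symm)
    have hcard : ∀ H : Subgroup K,
        {x ∈ O | ∀ h ∈ H, h • x = x}.ncard = {y ∈ O' | ∀ h ∈ H, h • y = y}.ncard := by
      intro H
      refine Set.ncard_congr (fun x hx => ((e₀ ⟨x, hx.1⟩ : O') : Y)) ?_ ?_ ?_
      · intro x hx
        refine ⟨(e₀ _).2, fun h hh => ?_⟩
        obtain ⟨g, hg⟩ := hx.1
        have hg' : g • x₀ = x := hg
        rw [he₀ g ⟨x, hx.1⟩ hg', ← mul_smul, ← hiff, mul_smul, hg']
        exact hx.2 h hh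
      · intro a b ha hb hab
        exact congrArg Subtype.val (e₀.injective (Subtype.ext hab) : (⟨a, ha.1⟩ : O) = ⟨b, hb.1⟩)
      · intro y hy
        obtain ⟨g, hg⟩ := hy.1
        have hg' : g • y₀ = y := hg
        refine ⟨g • x₀, ⟨mem_orbit _ _, fun h hh => ?_⟩, ?_⟩
        · rw [← mul_smul, hiff, mul_smul, hg']
          exact hy.2 h hh
        · exact (he₀ g ⟨_, mem_orbit _ _⟩ rfl).trans hg'
    have hsd : ∀ H : Subgroup K,
        {x ∈ s \ O | ∀ h ∈ H, h • x = x}.ncard = {y ∈ t \ O' | ∀ h ∈ H, h • y = y}.ncard := by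
      intro H
      have hu : ∀ {Z : Type v} (u v : Set Z) (P : Z → Prop), u.Finite → v ⊆ u →
          {x ∈ u \ v | P x}.ncard + {x ∈ v | P x}.ncard = {x ∈ u | P x}.ncard := by
        intro Z u v P hu hvu
        have hd : Disjoint {x ∈ u \ v | P x} {x ∈ v | P x} :=
          Set.disjoint_left.2 fun a ha hb => ha.1.2 hb.1
        rw [← Set.ncard_union_eq hd (hu.subset fun a ha => ha.1.1) (hu.subset fun a ha => hvu ha.1)]
        congr 1
        ext a
        constructor
        · rintro (ha | ha)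
          · exact ⟨ha.1.1, ha.2⟩
          · exact ⟨hvu ha.1, ha.2⟩
        · intro ha
          by_cases hav : a ∈ v
          · exact Or.inr ⟨hav, ha.2⟩
          · exact Or.inl ⟨⟨ha.1, hav⟩, ha.2⟩
      have h1 := hu s O (fun x => ∀ h ∈ H, h • x = x) hs hOs
      have h2 := hu t O' (fun y => ∀ h ∈ H, h • y = y) ht hOt
      have h3 := hm H
      have h4 := hcard H
      omega
    have hdiff : (s \ O).ncard ≤ n := by
      have : (s \ O).ncard < s.ncard := Set.ncard_lt_ncard
        ⟨fun a ha => ha.1, fun hsub => (hsub hx₀).2 (mem_orbit_self _)⟩ hs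
      omega
    have hinv : ∀ {Z : Type v} [MulAction K Z] (u : Set Z) (z : Z), (∀ g : K, ∀ x ∈ u, g • x ∈ u) →
        ∀ g : K, ∀ x ∈ u \ orbit K z, g • x ∈ u \ orbit K z := fun u z hu g x hx =>
      ⟨hu g x hx.1, fun ⟨k, hk⟩ => hx.2 ⟨g⁻¹ * k, by
        show (g⁻¹ * k) • z = x
        rw [mul_smul, show k • z = g • x from hk, inv_smul_smul]⟩⟩
    obtain ⟨f, hf⟩ := ih (s \ O) (t \ O') (hs.subset Set.sdiff_subset) (ht.subset Set.sdiff_subset) hdiff
      (hinv s x₀ hsi) (hinv t y₀ hti) hsd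
    let F : s → t := fun x => if hx : (x : X) ∈ O then ⟨_, hOt (e₀ ⟨x, hx⟩).2⟩
      else ⟨_, (f ⟨x, x.2, hx⟩).2.1⟩
    have hF : Function.Bijective F := by
      constructor
      · intro a b hab
        have hab' : ((F a : t) : Y) = F b := congrArg Subtype.val hab
        by_cases ha : (a : X) ∈ O <;> by_cases hb : (b : X) ∈ O
        · simp only [F, dif_pos ha, dif_pos hb] at hab'
          exact Subtype.ext (congrArg (fun z : O => (z : X)) (e₀.injective (Subtype.ext hab')))
        · simp only [F, dif_pos ha, dif_neg hb] at hab'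
          exact absurd (hab' ▸ (e₀ ⟨a, ha⟩).2) (f ⟨b, b.2, hb⟩).2.2
        · simp only [F, dif_neg ha, dif_pos hb] at hab'
          exact absurd (hab'.symm ▸ (e₀ ⟨b, hb⟩).2) (f ⟨a, a.2, ha⟩).2.2
        · simp only [F, dif_neg ha, dif_neg hb] at hab'
          exact Subtype.ext (congrArg (fun z : ↥(s \ O) => (z : X)) (f.injective (Subtype.ext hab')))
      · intro y
        by_cases hy : (y : Y) ∈ O'
        · refine ⟨⟨_, hOs (e₀.symm ⟨y, hy⟩).2⟩, Subtype.ext ?_⟩
          simp only [F, dif_pos (e₀.symm ⟨y, hy⟩).2]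
          exact congrArg Subtype.val (e₀.apply_symm_apply ⟨y, hy⟩)
        · refine ⟨⟨_, (f.symm ⟨y, y.2, hy⟩).2.1⟩, Subtype.ext ?_⟩
          simp only [F, dif_neg (f.symm ⟨y, y.2, hy⟩).2.2]
          exact congrArg Subtype.val (f.apply_symm_apply ⟨y, y.2, hy⟩)
    refine ⟨Equiv.ofBijective F hF, fun g x x' hg => ?_⟩
    show g • ((F x : t) : Y) = F x'
    by_cases hx : (x : X) ∈ O
    · obtain ⟨k, hk⟩ := id hx
      have hk' : k • x₀ = (x : X) := hk
      have hx' : (g * k) • x₀ = (x' : X) := by rw [mul_smul, hk', hg]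
      simp only [F]
      rw [dif_pos hx, dif_pos (show (x' : X) ∈ O from ⟨g * k, hx'⟩)]
      dsimp only
      rw [he₀ k ⟨x, _⟩ hk', he₀ (g * k) ⟨x', _⟩ hx', mul_smul]
    · have hx' : (x' : X) ∉ O := fun h => by
        rw [← hg] at h
        exact (hinv s x₀ hsi g x ⟨x.2, hx⟩).2 h
      simp only [F, dif_neg hx, dif_neg hx']
      exact hf g ⟨x, x.2, hx⟩ ⟨x', x'.2, hx'⟩ hg

/-- Burnside's theorem on marks. -/
theorem exists_equiv_of_marks [Finite K] [Finite X] [Finite Y]
    (hm : ∀ H : Subgroup K, Nat.card {x : X // ∀ h ∈ H, h • x = x} = Nat.card {y : Y // ∀ h ∈ H, h • y = y}) :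
    ∃ e : X ≃ Y, ∀ (g : K) (x : X), e (g • x) = g • e x := by
  obtain ⟨f, hf⟩ := exists_bijOn_of_marks (K := K) _ (Set.univ : Set X) (Set.univ : Set Y) Set.finite_univ
    Set.finite_univ le_rfl (fun _ _ _ => trivial) (fun _ _ _ => trivial) fun H => by
      have := hm H
      simp only [Set.mem_univ, true_and]
      rw [← Nat.card_coe_set_eq, ← Nat.card_coe_set_eq]
      exact this
  exact ⟨((Equiv.Set.univ X).symm.trans f).trans (Equiv.Set.univ Y),
    fun g x => (hf g ⟨x, trivial⟩ ⟨g • x, trivial⟩ rfl).symm⟩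

end Iso

/-- The number of points of `K ⧸ H₀` fixed by `H`. -/
noncomputable def fix (H₀ H : Subgroup K) : ℕ := Nat.card {q : K ⧸ H₀ // ∀ h ∈ H, h • q = q}

lemma fixed_mk_iff {H₀ H : Subgroup K} {g : K} :
    (∀ h ∈ H, h • (g : K ⧸ H₀) = (g : K ⧸ H₀)) ↔ ∀ h ∈ H, g⁻¹ * h * g ∈ H₀ := by
  refine forall₂_congr fun h _ => ?_
  show ((h * g : K) : K ⧸ H₀) = (g : K ⧸ H₀) ↔ _
  rw [eq_comm, QuotientGroup.eq, mul_assoc]

/-- `fix` only depends on the conjugacy class of `H`. -/
lemma fix_conj (H₀ H : Subgroup K) (a : K) : fix H₀ (H.map (MulAut.conj a).toMonoidHom) = fix H₀ H := by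
  refine Nat.card_congr (Equiv.subtypeEquiv (MulAction.toPerm a⁻¹) fun q => ?_)
  constructor
  · intro hq h hh
    show h • a⁻¹ • q = a⁻¹ • q
    have h1 := hq _ ⟨h, hh, rfl⟩
    conv_rhs => rw [← h1]
    rw [← mul_smul, ← mul_smul]
    simp [mul_assoc]
  · rintro hq _ ⟨h, hh, rfl⟩
    have h1 := congrArg (fun z => a • z) (hq h hh)
    simpa [MulAction.toPerm, ← mul_smul, mul_assoc] using h1

variable [Finite K]

lemma le_card_of_fix_ne_zero {H₀ H : Subgroup K} (h : fix H₀ H ≠ 0) :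
    ∃ g : K, H.map (MulAut.conj g).toMonoidHom ≤ H₀ ∧ Nat.card H ≤ Nat.card H₀ := by
  obtain ⟨⟨q, hq⟩, -⟩ : Nonempty {q : K ⧸ H₀ // ∀ h ∈ H, h • q = q} ∧ Finite _ := Nat.card_ne_zero.1 h
  obtain ⟨g, rfl⟩ := QuotientGroup.mk_surjective q
  have hle : H.map (MulAut.conj g⁻¹).toMonoidHom ≤ H₀ := by
    rintro _ ⟨x, hx, rfl⟩
    simpa using fixed_mk_iff.1 hq x hx
  exact ⟨g⁻¹, hle, (Subgroup.card_map_of_injective (MulAut.conj g⁻¹).injective).ge.trans
    (Subgroup.card_le_of_le hle)⟩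

lemma fix_pos_self (H : Subgroup K) : 0 < fix H H :=
  Nat.card_pos_iff.2 ⟨⟨⟨((1 : K) : K ⧸ H), fixed_mk_iff.2 fun h hh => by simpa using hh⟩⟩, inferInstance⟩

/-- `fix H H · |H| = |N_K(H)|`. -/
lemma fix_self_mul_card (H : Subgroup K) :
    fix H H * Nat.card H = Nat.card (Subgroup.normalizer (H : Set K)) := by
  have hle : H ≤ Subgroup.normalizer (H : Set K) := Subgroup.le_normalizer
  rw [Subgroup.card_eq_card_quotient_mul_card_subgroup (H.subgroupOf (Subgroup.normalizer (H : Set K))),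
    Nat.card_congr (Subgroup.subgroupOfEquivOfLe hle).toEquiv]
  congr 1
  symm
  refine Nat.card_congr (Equiv.ofBijective (fun q => Quotient.liftOn' q
    (fun n => (⟨((n : K) : K ⧸ H), fixed_mk_iff.2 fun h hh => by
      simpa using (Subgroup.mem_normalizer_iff.1 ((Subgroup.normalizer (H : Set K)).inv_mem n.2) h).1 hh⟩ :
        {q : K ⧸ H // ∀ h ∈ H, h • q = q})) ?_) ⟨?_, ?_⟩)
  · intro a b hab
    rw [QuotientGroup.leftRel_apply] at hab
    exact Subtype.ext (QuotientGroup.eq.2 hab)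
  · intro a b
    induction a using Quotient.inductionOn' with
    | h a =>
      induction b using Quotient.inductionOn' with
      | h b =>
        intro hab
        have h2 := congrArg Subtype.val hab
        change ((a : K) : K ⧸ H) = ((b : K) : K ⧸ H) at h2
        exact Quotient.sound' (QuotientGroup.leftRel_apply.2 ((QuotientGroup.eq (s := H)).1 h2))
  · rintro ⟨q, hq⟩
    obtain ⟨g, rfl⟩ := QuotientGroup.mk_surjective q
    have h1 : g⁻¹ ∈ Subgroup.normalizer (H : Set K) := Subgroup.mem_normalizer_fintype fun h hh => by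
      simpa using fixed_mk_iff.1 hq h hh
    exact ⟨QuotientGroup.mk ⟨g, by simpa using (Subgroup.normalizer (H : Set K)).inv_mem h1⟩, rfl⟩

end CfsgLib.Biset
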