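import Cfsg.Agent.Fusion.Biset.Existence

/-!
The biset of a combination of coset spaces, and its group of permutations commuting with the left action.
-/

set_option autoImplicit false
set_option linter.style.haveILetI false

open Cfsg

namespace CfsgLib.Biset

open Cfsg.FusionSystem CfsgLib.Fusion

universe u

variable {Ω : Type u} [Group Ω] {S : Subgroup Ω}

/-- The orbits of a combination. -/
abbrev BIndex (n : Subgroup (S × S) → ℕ) : Type u := Σ H : Subgroup (S × S), Fin (n H)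

/-- The biset of a combination. -/
def BSpace (n : Subgroup (S × S) → ℕ) : Type u := Σ j : BIndex n, (S × S) ⧸ j.1

variable (n : Subgroup (S × S) → ℕ)

instance instMulActionBSpace : MulAction (S × S) (BSpace n) where
  smul a x := ⟨x.1, a • x.2⟩
  one_smul x := Sigma.ext rfl (heq_of_eq (one_smul _ x.2))
  mul_smul a b x := Sigma.ext rfl (heq_of_eq (mul_smul a b x.2))

variable {n}

lemma smul_mk (a : S × S) (j : BIndex n) (q : (S × S) ⧸ j.1) : a • (⟨j, q⟩ : BSpace n) = ⟨j, a • q⟩ := rfl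

instance instFiniteBSpace [Finite S] : Finite (BSpace n) :=
  inferInstanceAs (Finite (Σ j : BIndex n, (S × S) ⧸ j.1))

/-- Marks count fixed points. -/
lemma card_fixed [Finite S] (H : Subgroup (S × S)) :
    Nat.card {x : BSpace n // ∀ h ∈ H, h • x = x} = mark n H := by
  classical
  letI : Fintype (Subgroup (S × S)) := Fintype.ofFinite _
  let e : {x : BSpace n // ∀ h ∈ H, h • x = x} ≃ Σ j : BIndex n, {q : (S × S) ⧸ j.1 // ∀ h ∈ H, h • q = q} :=
    { toFun := fun x => ⟨x.1.1, x.1.2, fun h hh => eq_of_heq (Sigma.ext_iff.1 (x.2 h hh)).2⟩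
      invFun := fun x => ⟨⟨x.1, x.2.1⟩, fun h hh => Sigma.ext rfl (heq_of_eq (x.2.2 h hh))⟩
      left_inv := fun x => rfl
      right_inv := fun x => rfl }
  rw [Nat.card_congr e, Nat.card_sigma, mark_eq, Fintype.sum_sigma]
  refine Finset.sum_congr rfl fun H₀ _ => ?_
  show ∑ _y : Fin (n H₀), fix H₀ H = _
  simp

/-- The permutations commuting with the left action. -/
def leftCentralizer (n : Subgroup (S × S) → ℕ) : Subgroup (Equiv.Perm (BSpace n)) where
  carrier := {σ | ∀ (a : S) (x : BSpace n), σ (((a, 1) : S × S) • x) = ((a, 1) : S × S) • σ x}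
  one_mem' := fun a x => rfl
  mul_mem' := fun {σ τ} hσ hτ a x => (congrArg σ (hτ a x)).trans (hσ a (τ x))
  inv_mem' := fun {σ} hσ a x => σ.injective (by rw [hσ]; simp)

/-- The right action of `S`, inside the group. -/
def rightHom (n : Subgroup (S × S) → ℕ) : S →* leftCentralizer n where
  toFun s := ⟨MulAction.toPermHom (S × S) (BSpace n) (1, s), fun a x => by
    show ((1, s) : S × S) • ((a, 1) : S × S) • x = ((a, 1) : S × S) • ((1, s) : S × S) • x
    rw [← mul_smul, ← mul_smul]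
    exact congrArg (· • x) (Prod.ext (by simp) (by simp))⟩
  map_one' := Subtype.ext (by
    show MulAction.toPermHom (S × S) (BSpace n) 1 = 1
    rw [map_one])
  map_mul' s t := Subtype.ext (by
    show MulAction.toPermHom (S × S) (BSpace n) (1, s * t) = _
    rw [show ((1, s * t) : S × S) = (1, s) * (1, t) from Prod.ext (one_mul 1).symm rfl, map_mul]
    rfl)

lemma rightHom_apply (s : S) (x : BSpace n) :
    ((rightHom n s : leftCentralizer n) : Equiv.Perm (BSpace n)) x = ((1, s) : S × S) • x := rfl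

/-- An action pulled back along a homomorphism. -/
def Pull {L : Type u} [Group L] (_f : L →* S × S) (n : Subgroup (S × S) → ℕ) : Type u := BSpace n

instance instMulActionPull {L : Type u} [Group L] (f : L →* S × S) : MulAction L (Pull f n) :=
  MulAction.compHom (BSpace n) f

variable [Finite S] {F : Cfsg.FusionSystem S}

/-- A map of the system is a conjugation in the group of the biset. -/
theorem exists_conj_of_hom (hn : ∀ H, n H ≠ 0 → IsFGraph F H) (hst : IsStable F n) {P : Subgroup Ω}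
    {φ : P →* Ω} (hφ : φ ∈ F.Hom P) :
    ∃ g : leftCentralizer n, ∀ x : P,
      rightHom n ⟨φ x, val_mem hφ x⟩ = g * rightHom n ⟨x, le_of_hom hφ x.2⟩ * g⁻¹ := by
  classical
  have hP := le_of_hom hφ
  haveI := finite_of_le hP
  let f0 : S × P →* S × S := MonoidHom.mk' (fun x => (x.1, ⟨x.2, hP x.2.2⟩)) fun a b => rfl
  let f1 : S × P →* S × S := MonoidHom.mk' (fun x => (x.1, ⟨φ x.2, val_mem hφ x.2⟩)) fun a b =>
    Prod.ext rfl (Subtype.ext (map_mul φ a.2 b.2))
  haveI : Finite (Pull f0 n) := inferInstanceAs (Finite (BSpace n))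
  haveI : Finite (Pull f1 n) := inferInstanceAs (Finite (BSpace n))
  have hmark : ∀ L : Subgroup (S × P), mark n (L.map f0) = mark n (L.map f1) := by
    intro L
    have fwd : ∀ (V : Subgroup Ω) (c : V →* Ω), c ∈ F.Hom V → L.map f0 = gsub c →
        ∃ c' ∈ F.Hom V, L.map f1 = gsub c' := by
      intro V c hc hLc
      have hcP : ∀ v, c v ∈ P := fun v => by
        obtain ⟨x, -, hxv⟩ := hLc.ge (gpt_mem hc v)
        rw [show c v = ((x.2 : P) : Ω) from (congrArg (fun z : S × S => ((z.2 : S) : Ω)) hxv).symm]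
        exact x.2.2
      refine ⟨_, F.comp_mem hc hφ hcP, ?_⟩
      ext y
      rw [map_right_gsub hc hφ hcP]
      constructor
      · rintro ⟨x, hx, rfl⟩
        exact ⟨f0 x, hLc.le ⟨x, hx, rfl⟩, x.2.2, rfl, rfl⟩
      · rintro ⟨z, hz, hzP, h1, h2⟩
        obtain ⟨x, hx, rfl⟩ := hLc.ge hz
        exact ⟨x, hx, Prod.ext h1.symm (Subtype.ext h2)⟩
    by_cases hg : IsFGraph F (L.map f0)
    · obtain ⟨V, c, hc, hLc⟩ := hg
      obtain ⟨c', hc', hLc'⟩ := fwd V c hc hLc
      rw [hLc, hLc']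
      exact hst V c c' hc hc'
    · have hg' : ¬ IsFGraph F (L.map f1) := by
        rintro ⟨V, c, hc, hLc⟩
        obtain ⟨γ, hγ, -, hγ1, -⟩ := exists_inv hφ (rfl : φ.range = φ.range)
        have hcr : ∀ v, c v ∈ φ.range := fun v => by
          obtain ⟨x, -, hxv⟩ := hLc.ge (gpt_mem hc v)
          exact ⟨x.2, congrArg (fun z : S × S => ((z.2 : S) : Ω)) hxv⟩
        refine hg ⟨V, _, F.comp_mem hc hγ hcr, ?_⟩
        ext y
        rw [map_right_gsub hc hγ hcr]
        constructor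
        · rintro ⟨x, hx, rfl⟩
          exact ⟨f1 x, hLc.le ⟨x, hx, rfl⟩, ⟨_, rfl⟩, rfl, hγ1 _ _⟩
        · rintro ⟨z, hz, hzP, h1, h2⟩
          obtain ⟨x, hx, rfl⟩ := hLc.ge hz
          exact ⟨x, hx, Prod.ext h1.symm (Subtype.ext ((hγ1 _ _).symm.trans h2))⟩
      rw [mark_eq_zero hn hg, mark_eq_zero hn hg']
  have hpull : ∀ (f : S × P →* S × S) (L : Subgroup (S × P)),
      Nat.card {x : Pull f n // ∀ l ∈ L, l • x = x} = mark n (L.map f) := by
    intro f L
    rw [← card_fixed]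
    refine Nat.card_congr (Equiv.subtypeEquiv (Equiv.refl _) fun x => ?_)
    constructor
    · rintro hx _ ⟨l, hl, rfl⟩; exact hx l hl
    · exact fun hx l hl => hx (f l) ⟨l, hl, rfl⟩
  obtain ⟨e, he⟩ := exists_equiv_of_marks (K := S × P) (X := Pull f0 n) (Y := Pull f1 n)
    fun L => by rw [hpull, hpull, hmark]
  let e' : Equiv.Perm (BSpace n) := e
  have hf : ∀ a : S, f0 (a, 1) = (a, 1) ∧ f1 (a, 1) = (a, 1) := fun a =>
    ⟨Prod.ext rfl (Subtype.ext rfl), Prod.ext rfl (Subtype.ext (map_one φ))⟩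
  have hmem : e' ∈ leftCentralizer n := fun a x => by
    have h1 : e' (f0 (a, 1) • x) = f1 (a, 1) • e' x := he (a, 1) x
    rwa [(hf a).1, (hf a).2] at h1
  refine ⟨⟨e', hmem⟩, fun x => ?_⟩
  rw [eq_mul_inv_iff_mul_eq]
  refine Subtype.ext (Equiv.ext fun z => ?_)
  show ((1, ⟨φ x, _⟩) : S × S) • e' z = e' (((1, ⟨x, _⟩) : S × S) • z)
  exact (he (1, x) z).symm

omit [Finite S] in
/-- Conversely, conjugations are maps of the system, when the diagonal occurs. -/
theorem hom_of_conj (hn : ∀ H, n H ≠ 0 → IsFGraph F H) (hdiag : n (gsub (S := S) S.subtype) ≠ 0)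
    {P : Subgroup Ω} (hP : P ≤ S) {φ : P →* Ω} (hφ : ∀ x : P, φ x ∈ S) {g : leftCentralizer n}
    (hg : ∀ x : P, rightHom n ⟨φ x, hφ x⟩ = g * rightHom n ⟨x, hP x.2⟩ * g⁻¹) : φ ∈ F.Hom P := by
  set o : BSpace n := ⟨⟨gsub S.subtype, ⟨0, Nat.pos_of_ne_zero hdiag⟩⟩, ((1 : S × S) : (S × S) ⧸ _)⟩ with ho
  obtain ⟨⟨⟨H, i⟩, q⟩, hgo⟩ : ∃ y, (g : Equiv.Perm (BSpace n)) o = y := ⟨_, rfl⟩
  obtain ⟨k, rfl⟩ := QuotientGroup.mk_surjective q
  have hfix : ∀ x : P, k⁻¹ * ((⟨x, hP x.2⟩ : S), (⟨φ x, hφ x⟩ : S)) * k ∈ H := by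
    intro x
    set s : S := ⟨x, hP x.2⟩
    have h1 : ((s, 1) : S × S) • ((1, s) : S × S) • o = o := by
      rw [← mul_smul]
      refine Sigma.ext rfl (heq_of_eq ?_)
      show (((((s, 1) : S × S) * (1, s)) * 1 : S × S) : (S × S) ⧸ gsub (S := S) S.subtype) = ((1 : S × S) : _)
      refine QuotientGroup.eq.2 ?_
      refine inv_mem_iff.1 ?_
      simp only [mul_one, inv_inv, one_mul, mul_inv_rev]
      exact ⟨by simpa using s.2, by simp⟩
    have h2 : (g : Equiv.Perm (BSpace n)) (((s, 1) : S × S) • ((1, s) : S × S) • o) =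
        ((s, 1) : S × S) • ((1, ⟨φ x, hφ x⟩) : S × S) • (g : Equiv.Perm (BSpace n)) o := by
      rw [g.2]
      congr 1
      have h3 : rightHom n ⟨φ x, hφ x⟩ * g = g * rightHom n s := by
        rw [hg x, inv_mul_cancel_right]
      exact (Equiv.ext_iff.1 (congrArg Subtype.val h3) o).symm
    rw [h1, ← mul_smul, hgo] at h2
    have h2' : (⟨⟨H, i⟩, (k : (S × S) ⧸ H)⟩ : BSpace n) =
        ⟨⟨H, i⟩, (((s, 1) : S × S) * (1, ⟨φ x, hφ x⟩)) • (k : (S × S) ⧸ H)⟩ := h2
    have h4 := eq_of_heq (Sigma.ext_iff.1 h2').2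
    have h5 := QuotientGroup.eq.1 h4
    simpa [mul_assoc] using h5
  have hni : n H ≠ 0 := Nat.pos_iff_ne_zero.1 (Fin.pos i)
  obtain ⟨V, c, hc, hcV⟩ := (hn H hni).map_conj' k
  have hmem : ∀ x : P, ((⟨x, hP x.2⟩ : S), (⟨φ x, hφ x⟩ : S)) ∈ gsub (S := S) c := fun x => by
    rw [← hcV]
    exact ⟨_, hfix x, by simp [mul_assoc]⟩
  exact restrict_of_eq hc (fun x hx => (hmem ⟨x, hx⟩).1) fun x => ((hmem x).2).symm

omit [Finite S] in
/-- The right action is faithful when the diagonal occurs. -/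
theorem rightHom_injective (hdiag : n (gsub (S := S) S.subtype) ≠ 0) : Function.Injective (rightHom n) := by
  refine (injective_iff_map_eq_one _).2 fun s hs => ?_
  set o : BSpace n := ⟨⟨gsub S.subtype, ⟨0, Nat.pos_of_ne_zero hdiag⟩⟩, ((1 : S × S) : (S × S) ⧸ _)⟩ with ho
  have h1 : ((1, s) : S × S) • o = o := Equiv.ext_iff.1 (congrArg Subtype.val hs) o
  have h2 := QuotientGroup.eq.1 (eq_of_heq (Sigma.ext_iff.1 h1).2).symm
  obtain ⟨hx, he⟩ := h2
  refine Subtype.ext ?_
  simp at he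
  exact he.symm

end CfsgLib.Biset
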