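import Cfsg.Agent.Fusion.Biset.TransferCenter

/-!
The Thompson transfer lemma for saturated fusion systems.
-/

set_option autoImplicit false
set_option linter.style.haveILetI false

open Cfsg

namespace CfsgLib.Biset

open Cfsg.FusionSystem CfsgLib.Fusion

universe u

variable {Ω : Type u} [Group Ω] {S : Subgroup Ω} [Finite S] {F : Cfsg.FusionSystem S}

/-- A free action has point set of order divisible by the order of the group. -/
lemma card_dvd_of_free {C X : Type*} [Group C] [Finite X] [MulAction C X] (h : ∀ (c : C) (x : X), c • x = x → c = 1) :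
    Nat.card C ∣ Nat.card X := by
  classical
  letI : Fintype (Quotient (MulAction.orbitRel C X)) := Fintype.ofFinite _
  rw [Nat.card_congr (MulAction.selfEquivSigmaOrbits C X), Nat.card_sigma]
  refine Finset.dvd_sum fun ω _ => ?_
  refine dvd_of_eq ?_
  refine Nat.card_congr (Equiv.ofBijective (fun c : C => (⟨c • ω.out, MulAction.mem_orbit _ _⟩ : MulAction.orbit C ω.out))
    ⟨fun a b hab => ?_, fun z => ?_⟩)
  · have h1 : a • ω.out = b • ω.out := congrArg Subtype.val hab
    exact (inv_mul_eq_one.1 (h (b⁻¹ * a) ω.out (by rw [mul_smul, h1, inv_smul_smul]))).symm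
  · obtain ⟨c, hc⟩ := z.2
    exact ⟨c, Subtype.ext hc⟩

/-- For an involution the normalizer of the generated subgroup is the centralizer. -/
lemma card_normalizerIn_zpowers {y : S} (hy : orderOf y = 2) :
    Nat.card (normalizerIn S (Subgroup.zpowers (y : Ω))) = Nat.card (Subgroup.centralizer ({y} : Set S)) := by
  have hy' : orderOf (y : Ω) = 2 := by rw [Subgroup.orderOf_coe, hy]
  have hmem : ∀ w ∈ Subgroup.zpowers (y : Ω), w = 1 ∨ w = y := by
    intro w hw
    obtain ⟨k, rfl⟩ := Subgroup.mem_zpowers_iff.1 hw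
    rw [← zpow_mod_orderOf, hy']
    rcases Int.emod_two_eq k with h | h <;> simp [h]
  have key : (Subgroup.centralizer ({y} : Set S)).map S.subtype = normalizerIn S (Subgroup.zpowers (y : Ω)) := by
    ext g
    constructor
    · rintro ⟨g, hg, rfl⟩
      refine ⟨g.2, Subgroup.centralizer_le_normalizer _ (Subgroup.mem_centralizer_iff.2 fun w hw => ?_)⟩
      have h1 : (y : Ω) * g = g * y := congrArg Subtype.val (Subgroup.mem_centralizer_iff.1 hg y rfl)
      rcases hmem w hw with rfl | rfl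
      · simp
      · exact h1
    · rintro ⟨hgS, hgN⟩
      refine ⟨⟨g, hgS⟩, Subgroup.mem_centralizer_iff.2 fun w hw => ?_, rfl⟩
      rw [Set.mem_singleton_iff.1 hw]
      refine Subtype.ext ?_
      show (y : Ω) * g = g * y
      rcases hmem _ ((Subgroup.mem_normalizer_iff.1 hgN _).1 (Subgroup.mem_zpowers _)) with h | h
      · rw [conj_eq_one_iff] at h
        rw [h, one_mul, mul_one]
      · exact (mul_inv_eq_iff_eq_mul.1 h).symm
  rw [← key, Subgroup.card_map_of_injective S.subtype_injective]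

/-- Thompson transfer: an involution all of whose fully normalized conjugates avoid a subgroup of index two is not
in the focal subgroup. -/
theorem not_mem_focal_of_thompson (hS : IsPGroup 2 S) (hF : F.IsSaturated 2) (T : Subgroup S) [T.Normal]
    (hT : T.index = 2) (i : S) (hi : orderOf i = 2)
    (h : ∀ y : S, F.IsConjElt (i : Ω) y → F.IsFullyNormalized (Subgroup.zpowers (y : Ω)) → y ∉ T) :
    (i : Ω) ∉ F.focalSubgroup := by
  classical
  haveI : Fact (Nat.Prime 2) := ⟨Nat.prime_two⟩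
  obtain ⟨n, hn, hst, hdeg⟩ := exists_stable hS hF
  have hA2 : Nat.card (S ⧸ T) = 2 := hT
  haveI : IsCyclic (S ⧸ T) := isCyclic_of_prime_card hA2
  letI : CommGroup (S ⧸ T) := IsCyclic.commGroup
  let f : S →* S ⧸ T := QuotientGroup.mk' T
  intro hfoc
  apply (show btransfer hn f i ≠ 1 from ?_) (btransfer_focal hn hst f hfoc)
  let Tr : ∀ j : BIndex n, (sndR j.1).LeftTransversal := fun j => default
  let r : ∀ j : BIndex n, S ⧸ sndR j.1 → S := fun j q => (Tr j).2.leftQuotientEquiv q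
  have hr : ∀ j q, ((r j q : S) : S ⧸ sndR j.1) = q := fun j q =>
    Subgroup.IsComplement.quotientGroupMk_leftQuotientEquiv (Tr j).2 q
  letI : ∀ j : BIndex n, Fintype (S ⧸ sndR j.1) := fun j => (sndR j.1).fintypeQuotientOfFiniteIndex
  let σ : (Σ j : BIndex n, S ⧸ sndR j.1) → (Σ j : BIndex n, S ⧸ sndR j.1) := fun x => ⟨x.1, i • x.2⟩
  have hii : i * i = 1 := by rw [← sq, ← hi]; exact pow_orderOf_eq_one i
  have hσ : ∀ x, σ (σ x) = x := fun x => Sigma.ext rfl (heq_of_eq (by
    show i • i • x.2 = x.2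
    rw [← mul_smul, hii, one_smul]))
  have hcoset : ∀ (j : BIndex n) (q : S ⧸ sndR j.1), (r j (i • q))⁻¹ * (i * r j q) ∈ sndR j.1 := by
    intro j q
    refine QuotientGroup.eq.1 ?_
    rw [hr]
    conv_lhs => rw [← hr j q]
    rfl
  let t : (Σ j : BIndex n, S ⧸ sndR j.1) → S := fun x => back (isFGraph_index hn x.1) ⟨_, hcoset x.1 x.2⟩
  have htval : btransfer hn f i = ∏ x, f (t x) := by
    rw [Fintype.prod_sigma, btransfer, MonoidHom.finsetProd_apply]
    refine Finset.prod_congr rfl fun j _ => ?_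
    rw [MonoidHom.transfer_def _ (Tr j), Subgroup.leftTransversals.diff]
    refine (Fintype.prod_equiv (MulAction.toPerm i) _ _ fun q => ?_).symm
    refine congrArg (f.comp (back (isFGraph_index hn j))) (Subtype.ext ?_)
    simp only [MulAction.toPerm_apply, Subgroup.smul_apply_eq_smul_apply_inv_smul, inv_smul_smul, smul_eq_mul]
    rfl
  have hpair : ∀ x, t (σ x) * t x = 1 := by
    intro x
    rw [← map_one (back (isFGraph_index hn x.1))]
    show back _ _ * back _ _ = _
    rw [← map_mul]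
    congr 1
    refine Subtype.ext ?_
    show (r x.1 (i • i • x.2))⁻¹ * (i * r x.1 (i • x.2)) * ((r x.1 (i • x.2))⁻¹ * (i * r x.1 x.2)) = 1
    rw [← mul_smul, hii, one_smul]
    calc (r x.1 x.2)⁻¹ * (i * r x.1 (i • x.2)) * ((r x.1 (i • x.2))⁻¹ * (i * r x.1 x.2))
        = (r x.1 x.2)⁻¹ * (i * i) * r x.1 x.2 := by group
      _ = 1 := by rw [hii, mul_one, inv_mul_cancel]
  -- the fixed cosets
  set Fx := Finset.univ.filter fun x => σ x = x with hFx
  set Mv := Finset.univ.filter fun x => ¬ σ x = x with hMv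
  have hprodMv : ∏ x ∈ Mv, f (t x) = 1 := by
    refine Finset.prod_involution (fun x _ => σ x) (fun x _ => ?_) (fun x hx _ => (Finset.mem_filter.1 hx).2)
      (fun x hx => Finset.mem_filter.2 ⟨Finset.mem_univ _, fun e => (Finset.mem_filter.1 hx).2 ?_⟩)
      (fun x _ => hσ x)
    · rw [mul_comm, ← map_mul, hpair, map_one]
    · rw [hσ] at e
      exact e.symm
  have hcardMv : ((Mv.card : ℕ) : ZMod 2) = 0 := by
    rw [← nsmul_one Mv.card, ← Finset.sum_const]
    refine Finset.sum_involution (fun x _ => σ x) (fun x _ => (rfl : (1 : ZMod 2) + 1 = 0)) (fun x hx _ => (Finset.mem_filter.1 hx).2)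
      (fun x hx => Finset.mem_filter.2 ⟨Finset.mem_univ _, fun e => (Finset.mem_filter.1 hx).2 ?_⟩)
      (fun x _ => hσ x)
    rw [hσ] at e
    exact e.symm
  have htot : Fx.card + Mv.card = degree n := by
    rw [hFx, hMv, Finset.card_filter_add_card_filter_not, Finset.card_univ, Fintype.card_sigma, ← sum_index hn]
    exact Finset.sum_congr rfl fun j _ => (Nat.card_eq_fintype_card).symm
  have hFxodd : ¬ 2 ∣ Fx.card := fun hd => hdeg (by
    rw [← htot]
    exact dvd_add hd ((CharP.cast_eq_zero_iff (ZMod 2) 2 _).1 hcardMv))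
  -- the fixed cosets with value in `T`
  set K := Fx.filter fun x => f (t x) = 1 with hK
  suffices hKeven : 2 ∣ K.card by
    rw [htval, ← Finset.prod_filter_mul_prod_filter_not Finset.univ (fun x => σ x = x), ← hFx, ← hMv, hprodMv,
      mul_one, ← Finset.prod_filter_mul_prod_filter_not Fx (fun x => f (t x) = 1), ← hK,
      Finset.prod_eq_one (fun x hx => (Finset.mem_filter.1 hx).2), one_mul]
    set R := Fx.filter fun x => ¬ f (t x) = 1 with hR
    have hRodd : ¬ 2 ∣ R.card := fun hd => hFxodd (by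
      rw [← Finset.card_filter_add_card_filter_not (s := Fx) (fun x => f (t x) = 1), ← hK, ← hR]
      exact dvd_add hKeven hd)
    have hRne : R.Nonempty := Finset.card_pos.1 (Nat.pos_of_ne_zero fun e => hRodd (e ▸ dvd_zero 2))
    obtain ⟨x₀, hx₀⟩ := hRne
    obtain ⟨a, b, hab, hu⟩ := Nat.card_eq_two_iff.1 hA2
    have huniq : ∀ z : S ⧸ T, z ≠ 1 → z = f (t x₀) := by
      intro z hz
      have h0 := (Finset.mem_filter.1 hx₀).2
      have hm : ∀ w : S ⧸ T, w = a ∨ w = b := fun w => by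
        have := (Set.ext_iff.1 hu w).2 trivial
        simpa using this
      rcases hm z with rfl | rfl <;> rcases hm (f (t x₀)) with e | e <;> rcases hm 1 with e' | e' <;>
        simp_all
    rw [Finset.prod_congr rfl fun x hx => huniq _ (Finset.mem_filter.1 hx).2, Finset.prod_const]
    intro hpow
    refine (Finset.mem_filter.1 hx₀).2 ?_
    have h2 : f (t x₀) ^ 2 = 1 := by rw [← hA2]; exact pow_card_eq_one'
    obtain ⟨m, hm⟩ := Nat.odd_iff.2 (Nat.two_dvd_ne_zero.1 hRodd)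
    rwa [hm, pow_add, pow_mul, h2, one_pow, one_mul, pow_one] at hpow
  -- partition by conjugacy classes
  rw [Finset.card_eq_sum_card_fiberwise (s := K) (f := fun x => ConjClasses.mk (t x))
    (t := K.image fun x => ConjClasses.mk (t x)) (fun x hx => Finset.mem_image_of_mem _ hx)]
  refine Finset.dvd_sum fun c hc => ?_
  obtain ⟨x₀, hx₀K, rfl⟩ := Finset.mem_image.1 hc
  set y₀ := t x₀ with hy₀
  have hx₀σ : σ x₀ = x₀ := (Finset.mem_filter.1 (Finset.mem_filter.1 hx₀K).1).2
  have hy₀T : y₀ ∈ T := (QuotientGroup.eq_one_iff _).1 (Finset.mem_filter.1 hx₀K).2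
  have hfix : ∀ x, σ x = x → i • x.2 = x.2 := fun x e => eq_of_heq (Sigma.ext_iff.1 e).2
  have hgraph : ∀ x, σ x = x → ((t x, (r x.1 x.2)⁻¹ * i * r x.1 x.2) : S × S) ∈ x.1.1 := by
    intro x e
    have := back_mem (isFGraph_index hn x.1) ⟨_, hcoset x.1 x.2⟩
    have e2 : (r x.1 x.2)⁻¹ * i * r x.1 x.2 = (r x.1 (i • x.2))⁻¹ * (i * r x.1 x.2) := by
      rw [hfix x e, mul_assoc]
    rw [e2]
    exact this
  -- the map `y₀ ↦ i`
  obtain ⟨φ, hφ, hφi⟩ : ∃ φ ∈ F.Hom (Subgroup.zpowers (y₀ : Ω)), φ ⟨y₀, Subgroup.mem_zpowers _⟩ = (i : Ω) := by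
    obtain ⟨U, φj, hφj, hj⟩ := isFGraph_index hn x₀.1
    have hg := hgraph x₀ hx₀σ
    rw [hj, mem_gsub] at hg
    obtain ⟨hyU, he⟩ := hg
    set g := r x₀.1 x₀.2
    have hle : Subgroup.zpowers (y₀ : Ω) ≤ U := Subgroup.zpowers_le.2 hyU
    refine ⟨(MulAut.conj (g : Ω)).toMonoidHom.comp (φj.comp (Subgroup.inclusion hle)), ?_, ?_⟩
    · have h1 := restrict hφj hle
      exact comp_of_eq h1 (F.conj_mem (P := S) le_rfl g.2) (fun x => val_mem h1 x) fun x => rfl
    · show (g : Ω) * φj ⟨y₀, _⟩ * (g : Ω)⁻¹ = i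
      rw [show φj ⟨y₀, hle (Subgroup.mem_zpowers _)⟩ = _ from he]
      simp [mul_assoc]
  obtain ⟨ψ, hψ, hψr, hψ1, -⟩ := exists_inv hφ (rfl : φ.range = φ.range)
  have hiy : F.IsConjElt (i : Ω) y₀ := by
    have hle : Subgroup.zpowers (i : Ω) ≤ φ.range := Subgroup.zpowers_le.2 ⟨_, hφi⟩
    refine ⟨ψ.comp (Subgroup.inclusion hle), restrict hψ hle, ?_⟩
    have h1 := hψ1 ⟨y₀, Subgroup.mem_zpowers _⟩ ⟨_, rfl⟩
    refine Eq.trans (congrArg ψ (Subtype.ext ?_)) h1
    exact hφi.symm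
  have hy₀2 : orderOf y₀ = 2 := by
    rw [← Subgroup.orderOf_coe, ← orderOf_injective φ (F.injective_of_mem hφ) ⟨y₀, Subgroup.mem_zpowers _⟩ |>.trans
      (Subgroup.orderOf_mk _ _), hφi, Subgroup.orderOf_coe, hi]
  have hnf : ¬ F.IsFullyNormalized (Subgroup.zpowers (y₀ : Ω)) := fun hfn => h y₀ hiy hfn hy₀T
  obtain ⟨Q, hQc, hQlt⟩ : ∃ Q, F.IsConj (Subgroup.zpowers (y₀ : Ω)) Q ∧
      Nat.card (normalizerIn S (Subgroup.zpowers (y₀ : Ω))) < Nat.card (normalizerIn S Q) := by
    by_contra hcon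
    push_neg at hcon
    exact hnf ⟨Subgroup.zpowers_le.2 y₀.2, hcon⟩
  obtain ⟨φ', hφ', hφ'Q⟩ := hQc
  set y₁ : S := ⟨φ' ⟨y₀, Subgroup.mem_zpowers _⟩, val_mem hφ' _⟩ with hy₁
  have hQy : Q = Subgroup.zpowers (y₁ : Ω) := by
    rw [← hφ'Q]
    refine le_antisymm ?_ (Subgroup.zpowers_le.2 ⟨_, rfl⟩)
    rintro _ ⟨⟨w, hw⟩, rfl⟩
    obtain ⟨k, rfl⟩ := Subgroup.mem_zpowers_iff.1 hw
    refine ⟨k, ?_⟩
    show (φ' _) ^ k = _
    rw [← map_zpow]
    rfl
  have hy₁2 : orderOf y₁ = 2 := by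
    rw [← Subgroup.orderOf_coe, hy₁, orderOf_injective φ' (F.injective_of_mem hφ'), Subgroup.orderOf_mk,
      Subgroup.orderOf_coe, hy₀2]
  rw [hQy, card_normalizerIn_zpowers hy₀2, card_normalizerIn_zpowers hy₁2] at hQlt
  set C₀ := Subgroup.centralizer ({y₀} : Set S)
  set C₁ := Subgroup.centralizer ({y₁} : Set S)
  set fib := K.filter fun x => ConjClasses.mk (t x) = ConjClasses.mk y₀
  -- the fixed points of `(y₀, i)`
  have hcount : mark n (gsub φ) = fib.card * Nat.card C₀ := by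
    rw [← card_fixed]
    let B : S × (Σ j : BIndex n, S ⧸ sndR j.1) → BSpace n := fun a => ⟨a.2.1, ((a.1, r a.2.1 a.2.2) : S × S)⟩
    have hBfix : ∀ a x, (∀ h ∈ gsub (S := S) φ, h • B (a, x) = B (a, x)) ↔ σ x = x ∧ a * t x * a⁻¹ = y₀ := by
      intro a x
      have hone : ((y₀, i) : S × S) ∈ gsub (S := S) φ := mem_gsub.2 ⟨Subgroup.mem_zpowers _, hφi⟩
      have hcond : ((y₀, i) : S × S) • B (a, x) = B (a, x) ↔
          ((a⁻¹ * y₀ * a, (r x.1 x.2)⁻¹ * i * r x.1 x.2) : S × S) ∈ x.1.1 := by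
        constructor
        · intro e
          have h1 := QuotientGroup.eq.1 (eq_of_heq (Sigma.ext_iff.1 e).2).symm
          simpa [mul_assoc] using h1
        · intro e
          refine Sigma.ext rfl (heq_of_eq (QuotientGroup.eq.2 ?_).symm)
          simpa [mul_assoc] using e
      constructor
      · intro hall
        have h1 := hcond.1 (hall _ hone)
        have hσx : σ x = x := by
          refine Sigma.ext rfl (heq_of_eq ?_)
          show i • x.2 = x.2
          conv_lhs => rw [← hr x.1 x.2]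
          conv_rhs => rw [← hr x.1 x.2]
          refine (QuotientGroup.eq.2 ?_).symm
          show (r x.1 x.2)⁻¹ * (i * r x.1 x.2) ∈ _
          rw [← mul_assoc]
          exact ⟨_, h1, rfl⟩
        refine ⟨hσx, ?_⟩
        have h2 : t x = a⁻¹ * y₀ * a := by
          refine back_eq (isFGraph_index hn x.1) ?_
          show ((a⁻¹ * y₀ * a, (r x.1 (i • x.2))⁻¹ * (i * r x.1 x.2)) : S × S) ∈ _
          rw [hfix x hσx, ← mul_assoc]
          exact h1
        rw [h2]
        group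
      · rintro ⟨hσx, he⟩ h' hh'
        have h1 : ((y₀, i) : S × S) • B (a, x) = B (a, x) := hcond.2 (by
          rw [← he, show a⁻¹ * (a * t x * a⁻¹) * a = t x by group]
          exact hgraph x hσx)
        obtain ⟨hu, hue⟩ := mem_gsub.1 hh'
        obtain ⟨k, hk⟩ := Subgroup.mem_zpowers_iff.1 hu
        have : h' = ((y₀, i) : S × S) ^ k := by
          refine Prod.ext (Subtype.ext (by simpa using hk.symm)) (Subtype.ext ?_)
          rw [← hue, Prod.pow_snd, Subgroup.coe_zpow, ← hφi, ← map_zpow]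
          exact congrArg φ (Subtype.ext (by simpa using hk.symm))
        rw [this]
        exact (MulAction.stabilizer (S × S) (B (a, x))).zpow_mem h1 k
    have hBbij : Function.Bijective B := by
      constructor
      · rintro ⟨a, j, q⟩ ⟨a', j', q'⟩ he
        obtain ⟨rfl, he⟩ := Sigma.ext_iff.1 he
        have h1 := QuotientGroup.eq.1 (eq_of_heq he)
        have h2 : q = q' := by
          rw [← hr j q, ← hr j q']
          exact QuotientGroup.eq.2 ⟨_, h1, rfl⟩
        subst h2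
        have h1' : ((a⁻¹ * a', (r j q)⁻¹ * r j q) : S × S) ∈ j.1 := h1
        rw [inv_mul_cancel] at h1'
        have h3 : back (isFGraph_index hn j) (1 : sndR j.1) = a⁻¹ * a' :=
          back_eq (isFGraph_index hn j) h1'
        rw [map_one, eq_comm, inv_mul_eq_one] at h3
        rw [h3]
      · rintro ⟨j, q⟩
        obtain ⟨⟨a, b⟩, rfl⟩ := QuotientGroup.mk_surjective q
        have h1 : b⁻¹ * r j (b : S ⧸ sndR j.1) ∈ sndR j.1 := QuotientGroup.eq.1 (hr j _).symm
        refine ⟨(a * back (isFGraph_index hn j) ⟨_, h1⟩, ⟨j, (b : S ⧸ sndR j.1)⟩), Sigma.ext rfl (heq_of_eq ?_)⟩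
        refine (QuotientGroup.eq.2 ?_).symm
        simpa using back_mem (isFGraph_index hn j) ⟨_, h1⟩
    rw [← Nat.card_congr ((Equiv.ofBijective B hBbij).subtypeEquiv
      (p := fun ax : S × (Σ j : BIndex n, S ⧸ sndR j.1) => σ ax.2 = ax.2 ∧ ax.1 * t ax.2 * ax.1⁻¹ = y₀)
      fun ax => ((hBfix ax.1 ax.2)).symm)]
    have hfib : ∀ x, x ∈ fib ↔ σ x = x ∧ ∃ a : S, a * t x * a⁻¹ = y₀ := by
      intro x
      rw [Finset.mem_filter, Finset.mem_filter, Finset.mem_filter, ConjClasses.mk_eq_mk_iff_isConj, isConj_iff]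
      refine ⟨fun hx => ⟨hx.1.1.2, hx.2⟩, fun hx => ⟨⟨⟨Finset.mem_univ _, hx.1⟩, ?_⟩, hx.2⟩⟩
      obtain ⟨a, ha⟩ := hx.2
      refine (QuotientGroup.eq_one_iff _).2 ?_
      rw [show t x = a⁻¹ * y₀ * a⁻¹⁻¹ by rw [← ha]; group]
      exact (inferInstance : T.Normal).conj_mem _ hy₀T _
    choose a₀ ha₀ using fun x : fib => ((hfib x).1 x.2).2
    have hC₀ : ∀ c : C₀, y₀ * (c : S) = c * y₀ := fun c => Subgroup.mem_centralizer_iff.1 c.2 y₀ rfl
    let e : fib × C₀ → {ax : S × (Σ j : BIndex n, S ⧸ sndR j.1) // σ ax.2 = ax.2 ∧ ax.1 * t ax.2 * ax.1⁻¹ = y₀} :=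
      fun xc => ⟨((xc.2 : S) * a₀ xc.1, xc.1), ((hfib _).1 xc.1.2).1, by
        rw [show (xc.2 : S) * a₀ xc.1 * t xc.1 * ((xc.2 : S) * a₀ xc.1)⁻¹ =
          (xc.2 : S) * (a₀ xc.1 * t xc.1 * (a₀ xc.1)⁻¹) * (xc.2 : S)⁻¹ by group, ha₀, ← hC₀, mul_inv_cancel_right]⟩
    have he : Function.Bijective e := by
      constructor
      · rintro ⟨x, c⟩ ⟨x', c'⟩ heq
        have h1 := congrArg Subtype.val heq
        obtain rfl : x = x' := Subtype.ext (congrArg Prod.snd h1)
        have h2 : (c : S) * a₀ x = c' * a₀ x := congrArg Prod.fst h1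
        rw [mul_right_cancel_iff] at h2
        rw [Subtype.ext h2]
      · rintro ⟨⟨a, x⟩, hσx, ha⟩
        have hx : x ∈ fib := (hfib x).2 ⟨hσx, a, ha⟩
        refine ⟨(⟨x, hx⟩, ⟨a * (a₀ ⟨x, hx⟩)⁻¹, Subgroup.mem_centralizer_iff.2 fun w hw => ?_⟩),
          Subtype.ext (Prod.ext ?_ rfl)⟩
        · rw [Set.mem_singleton_iff.1 hw]
          have e0 := ha₀ ⟨x, hx⟩
          have e1 : y₀ * a = a * t x := (mul_inv_eq_iff_eq_mul.1 ha).symm
          have e2 : t x * (a₀ ⟨x, hx⟩)⁻¹ = (a₀ ⟨x, hx⟩)⁻¹ * y₀ := by rw [← e0]; group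
          rw [← mul_assoc, e1, mul_assoc, e2, ← mul_assoc]
        · exact inv_mul_cancel_right _ _
    rw [← Nat.card_eq_of_bijective e he, Nat.card_prod, Nat.card_eq_finsetCard]
  -- divisibility by the larger centralizer
  have hdvd : Nat.card C₁ ∣ mark n (gsub φ) := by
    rw [hst _ φ φ' hφ hφ', ← card_fixed]
    letI : MulAction C₁ {x : BSpace n // ∀ h ∈ gsub (S := S) φ', h • x = x} :=
      { smul := fun c x => ⟨((1, (c : S)) : S × S) • x.1, fun h' hh' => by
          obtain ⟨hu, hue⟩ := mem_gsub.1 hh'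
          obtain ⟨k, hk⟩ := Subgroup.mem_zpowers_iff.1 hu
          have h1 : h'.2 = y₁ ^ k := Subtype.ext (by
            rw [← hue, Subgroup.coe_zpow, hy₁, ← map_zpow]
            exact congrArg φ' (Subtype.ext (by simpa using hk.symm)))
          have hcomm : h' * ((1, (c : S)) : S × S) = (1, (c : S)) * h' := by
            refine Prod.ext (by simp) ?_
            show h'.2 * c = c * h'.2
            rw [h1]
            exact ((show Commute y₁ (c : S) from Subgroup.mem_centralizer_iff.1 c.2 y₁ rfl).zpow_left k).eq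
          rw [← mul_smul, hcomm, mul_smul, x.2 h' hh']⟩
        one_smul := fun x => Subtype.ext (by
          show ((1, ((1 : C₁) : S)) : S × S) • x.1 = x.1
          exact one_smul (S × S) x.1)
        mul_smul := fun a b x => Subtype.ext (by
          show ((1, ((a * b : C₁) : S)) : S × S) • x.1 = ((1, (a : S)) : S × S) • ((1, (b : S)) : S × S) • x.1
          rw [← mul_smul]
          exact congrArg (· • x.1) (Prod.ext (one_mul _).symm rfl)) }
    refine card_dvd_of_free fun c x hcx => ?_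
    have h1 : ((1, (c : S)) : S × S) • x.1 = x.1 := congrArg Subtype.val hcx
    obtain ⟨⟨j, q⟩, hx⟩ := x
    obtain ⟨⟨a, b⟩, rfl⟩ := QuotientGroup.mk_surjective q
    have h2 := QuotientGroup.eq.1 (eq_of_heq (Sigma.ext_iff.1 h1).2).symm
    simp only [Prod.inv_mk, smul_eq_mul, Prod.mk_mul_mk, one_mul, inv_mul_cancel] at h2
    obtain ⟨U, φj, hφj, hj⟩ := isFGraph_index hn j
    rw [hj, mem_gsub] at h2
    obtain ⟨hu, hue⟩ := h2
    have h3 : ((b⁻¹ * ((c : S) * b) : S) : Ω) = 1 := hue.symm.trans (map_one φj)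
    refine Subtype.ext (Subtype.ext ?_)
    have h4 : (b : Ω)⁻¹ * ((c : S) : Ω) * b = 1 := by simpa [mul_assoc] using h3
    exact (conj_eq_one_iff (a := (b : Ω)⁻¹)).1 (by simpa using h4)
  -- powers of two
  obtain ⟨e₀, he₀⟩ := IsPGroup.iff_card.1 (hS.to_subgroup C₀)
  obtain ⟨e₁, he₁⟩ := IsPGroup.iff_card.1 (hS.to_subgroup C₁)
  rw [he₀, he₁] at hQlt
  have hlt : e₀ < e₁ := (Nat.pow_lt_pow_iff_right (by norm_num)).1 hQlt
  have h2dvd : 2 ^ e₀ * 2 ∣ fib.card * 2 ^ e₀ := by
    rw [← pow_succ, ← he₀, ← hcount]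
    exact (pow_dvd_pow 2 hlt).trans (he₁ ▸ hdvd)
  rw [mul_comm fib.card] at h2dvd
  exact Nat.dvd_of_mul_dvd_mul_left (pow_pos (by norm_num) e₀) h2dvd

end CfsgLib.Biset
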