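import Cfsg.Agent.Fusion.Biset.Space
import Mathlib.GroupTheory.Transfer

/-!
The transfer of a fusion system along a stable combination of graphs.
-/

set_option autoImplicit false
set_option linter.style.haveILetI false

open Cfsg

namespace CfsgLib.Biset

open Cfsg.FusionSystem CfsgLib.Fusion

universe u v

variable {Ω : Type u} [Group Ω] {S : Subgroup Ω} {F : Cfsg.FusionSystem S} {n : Subgroup (S × S) → ℕ}

/-- The second projection of a graph. -/
def sndR (H : Subgroup (S × S)) : Subgroup S := H.map (MonoidHom.snd S S)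

lemma snd_injOn {H : Subgroup (S × S)} (h : IsFGraph F H) :
    Function.Injective ((MonoidHom.snd S S).subgroupMap H) := by
  obtain ⟨U, φ, hφ, rfl⟩ := h
  rintro ⟨⟨a, b⟩, ha, hab⟩ ⟨⟨a', b'⟩, ha', hab'⟩ he
  obtain rfl : b = b' := congrArg Subtype.val he
  have h := F.injective_of_mem hφ (hab.trans hab'.symm)
  exact Subtype.ext (Prod.ext (Subtype.ext (Subtype.mk.inj h)) rfl)

/-- From the second projection back to the first. -/
noncomputable def back {H : Subgroup (S × S)} (h : IsFGraph F H) : sndR H →* S :=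
  ((MonoidHom.fst S S).comp H.subtype).comp
    (MulEquiv.ofBijective ((MonoidHom.snd S S).subgroupMap H)
      ⟨snd_injOn h, MonoidHom.subgroupMap_surjective _ _⟩).symm.toMonoidHom

lemma back_mem {H : Subgroup (S × S)} (h : IsFGraph F H) (r : sndR H) : (back h r, (r : S)) ∈ H := by
  set e := MulEquiv.ofBijective ((MonoidHom.snd S S).subgroupMap H)
    ⟨snd_injOn h, MonoidHom.subgroupMap_surjective _ _⟩ with he
  have h1 : ((e.symm r : H) : S × S).2 = r := congrArg Subtype.val (e.apply_symm_apply r)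
  rw [← h1]
  exact (e.symm r).2

lemma back_eq {H : Subgroup (S × S)} (h : IsFGraph F H) {r : sndR H} {a : S} (ha : (a, (r : S)) ∈ H) :
    back h r = a := by
  have := snd_injOn h (a₁ := ⟨_, back_mem h r⟩) (a₂ := ⟨_, ha⟩) (Subtype.ext rfl)
  exact congrArg (fun z : H => (z : S × S).1) this

variable [Finite S]

/-- The graph of an orbit is in the system. -/
lemma isFGraph_index (hn : ∀ H, n H ≠ 0 → IsFGraph F H) (j : BIndex n) : IsFGraph F j.1 :=
  hn _ (Nat.pos_iff_ne_zero.1 (Fin.pos j.2))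

noncomputable instance instFintypeBIndex : Fintype (BIndex n) := Fintype.ofFinite _

/-- The transfer along the combination. -/
noncomputable def btransfer (hn : ∀ H, n H ≠ 0 → IsFGraph F H) {A : Type v} [CommGroup A] (f : S →* A) : S →* A :=
  ∏ j : BIndex n, MonoidHom.transfer (f.comp (back (isFGraph_index hn j)))

/-- Conjugate elements of the system have equal transfer, for a stable combination. -/
theorem btransfer_stable (hn : ∀ H, n H ≠ 0 → IsFGraph F H) (hst : IsStable F n) {A : Type v} [CommGroup A]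
    (f : S →* A) {P : Subgroup Ω} {φ : P →* Ω} (hφ : φ ∈ F.Hom P) (x : P) :
    btransfer hn f ⟨φ x, val_mem hφ x⟩ = btransfer hn f ⟨x, le_of_hom hφ x.2⟩ := by
  classical
  let T : ∀ j : BIndex n, (sndR j.1).LeftTransversal := fun j => default
  let r : ∀ j : BIndex n, S ⧸ sndR j.1 → S := fun j q => (T j).2.leftQuotientEquiv q
  have hr : ∀ j q, ((r j q : S) : S ⧸ sndR j.1) = q := fun j q =>
    Subgroup.IsComplement.quotientGroupMk_leftQuotientEquiv (T j).2 q
  letI : ∀ j : BIndex n, Fintype (S ⧸ sndR j.1) := fun j => (sndR j.1).fintypeQuotientOfFiniteIndex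
  let B : S × (Σ j : BIndex n, S ⧸ sndR j.1) → BSpace n := fun a => ⟨a.2.1, ((a.1, r a.2.1 a.2.2) : S × S)⟩
  have hB : Function.Bijective B := by
    constructor
    · rintro ⟨a, j, q⟩ ⟨a', j', q'⟩ he
      obtain ⟨rfl, he⟩ := Sigma.ext_iff.1 he
      have h1 := QuotientGroup.eq.1 (eq_of_heq he)
      have h2 : q = q' := by
        rw [← hr j q, ← hr j q']
        exact QuotientGroup.eq.2 ⟨_, h1, rfl⟩
      subst h2
      have h1' : ((a⁻¹ * a', (r j q)⁻¹ * r j q) : S × S) ∈ j.1 := h1
      rw [inv_mul_cancel] at h1'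
      have h3 : back (isFGraph_index hn j) (1 : sndR j.1) = a⁻¹ * a' :=
        back_eq (isFGraph_index hn j) h1'
      rw [map_one, eq_comm, inv_mul_eq_one] at h3
      rw [h3]
    · rintro ⟨j, q⟩
      obtain ⟨⟨a, b⟩, rfl⟩ := QuotientGroup.mk_surjective q
      have h1 : b⁻¹ * r j (b : S ⧸ sndR j.1) ∈ sndR j.1 := QuotientGroup.eq.1 (hr j _).symm
      refine ⟨(a * back (isFGraph_index hn j) ⟨_, h1⟩, ⟨j, (b : S ⧸ sndR j.1)⟩), Sigma.ext rfl (heq_of_eq ?_)⟩
      refine (QuotientGroup.eq.2 ?_).symm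
      simpa using back_mem (isFGraph_index hn j) ⟨_, h1⟩
  let E : S × (Σ j : BIndex n, S ⧸ sndR j.1) ≃ BSpace n := Equiv.ofBijective B hB
  have hsm : ∀ (a a' : S) (i : (Σ j : BIndex n, S ⧸ sndR j.1)), ((a, 1) : S × S) • E (a', i) = E (a * a', i) := fun a a' i =>
    Sigma.ext rfl (heq_of_eq (congrArg QuotientGroup.mk (Prod.ext rfl (one_mul _))))
  let d : leftCentralizer n → (Σ j : BIndex n, S ⧸ sndR j.1) → S × (Σ j : BIndex n, S ⧸ sndR j.1) := fun g i => E.symm ((g : Equiv.Perm (BSpace n)) (E (1, i)))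
  have hd : ∀ (g : leftCentralizer n) (a : S) (i : (Σ j : BIndex n, S ⧸ sndR j.1)),
      (g : Equiv.Perm (BSpace n)) (E (a, i)) = E (a * (d g i).1, (d g i).2) := by
    intro g a i
    have h1 : E (a, i) = ((a, 1) : S × S) • E (1, i) := by rw [hsm, mul_one]
    rw [h1, g.2, ← hsm]
    simp [d]
  have hmul : ∀ (g h : leftCentralizer n) (i : (Σ j : BIndex n, S ⧸ sndR j.1)),
      d (g * h) i = ((d h i).1 * (d g (d h i).2).1, (d g (d h i).2).2) := by
    intro g h i
    refine E.symm_apply_eq.2 ?_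
    show (g : Equiv.Perm (BSpace n)) ((h : Equiv.Perm (BSpace n)) (E (1, i))) = _
    rw [hd h 1 i, one_mul, hd]
  have hone : ∀ i, d 1 i = (1, i) := fun i => E.symm_apply_eq.2 rfl
  have hperm : ∀ h : leftCentralizer n, Function.Bijective fun i => (d h i).2 := by
    intro h
    refine Finite.injective_iff_bijective.1 (Function.LeftInverse.injective (g := fun i => (d h⁻¹ i).2) fun i => ?_)
    have := hmul h⁻¹ h i
    rw [inv_mul_cancel, hone] at this
    exact (congrArg Prod.snd this).symm
  let tr : leftCentralizer n →* A := MonoidHom.mk' (fun g => ∏ i : (Σ j : BIndex n, S ⧸ sndR j.1), f (d g i).1) fun g h => by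
    rw [Finset.prod_congr rfl fun i _ => by rw [hmul g h i, map_mul], Finset.prod_mul_distrib, mul_comm,
      (hperm h).prod_comp fun i => f (d g i).1]
  have key : ∀ s : S, tr (rightHom n s) = (btransfer hn f s)⁻¹ := by
    intro s
    show ∏ i : (Σ j : BIndex n, S ⧸ sndR j.1), f (d (rightHom n s) i).1 = _
    rw [Fintype.prod_sigma, btransfer, MonoidHom.finsetProd_apply, ← Finset.prod_inv_distrib]
    refine Finset.prod_congr rfl fun j _ => ?_
    rw [MonoidHom.transfer_def _ (T j), Subgroup.leftTransversals.diff, ← Finset.prod_inv_distrib]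
    refine Fintype.prod_equiv (MulAction.toPerm s) _ _ fun q => ?_
    have h1 : (r j (s • q))⁻¹ * (s * r j q) ∈ sndR j.1 := by
      refine QuotientGroup.eq.1 ?_
      rw [hr]
      conv_lhs => rw [← hr j q]
      rfl
    have h2 : d (rightHom n s) ⟨j, q⟩ = ((back (isFGraph_index hn j) ⟨_, h1⟩)⁻¹, ⟨j, s • q⟩) := by
      refine E.symm_apply_eq.2 ?_
      rw [rightHom_apply]
      show (⟨j, (((1, s) : S × S) * (1, r j q) : S × S)⟩ : BSpace n) = _
      refine Sigma.ext rfl (heq_of_eq (QuotientGroup.eq.2 ?_))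
      simpa [mul_assoc] using inv_mem (back_mem (isFGraph_index hn j) ⟨_, h1⟩)
    rw [h2, map_inv]
    congr 1
    refine congrArg (f.comp (back (isFGraph_index hn j))) (Subtype.ext ?_)
    simp only [MulAction.toPerm_apply, Subgroup.smul_apply_eq_smul_apply_inv_smul, inv_smul_smul, smul_eq_mul]
    rfl
  obtain ⟨g, hg⟩ := exists_conj_of_hom hn hst hφ
  have := congrArg tr (hg x)
  rw [map_mul, map_mul, map_inv, key, key, mul_comm, inv_mul_cancel_left] at this
  exact inv_injective this

/-- The degree counts indices of the second projections. -/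
lemma sum_index (hn : ∀ H, n H ≠ 0 → IsFGraph F H) : ∑ j : BIndex n, (sndR j.1).index = degree n := by
  classical
  letI : Fintype (Subgroup (S × S)) := Fintype.ofFinite _
  rw [degree_eq, show (Finset.univ : Finset (BIndex n)) = Finset.univ.sigma fun _ => Finset.univ from
    Finset.ext fun _ => by simp, Finset.sum_sigma]
  refine Finset.sum_congr rfl fun H _ => ?_
  show ∑ _s : Fin (n H), (sndR H).index = _
  rw [Finset.sum_const, Finset.card_univ, Fintype.card_fin, smul_eq_mul]
  rcases Nat.eq_zero_or_pos (n H) with h | h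
  · simp [h]
  congr 1
  have hc : Nat.card (sndR H) = Nat.card H :=
    (Nat.card_congr (Equiv.ofBijective _ ⟨snd_injOn (hn H h.ne'), MonoidHom.subgroupMap_surjective _ _⟩)).symm
  rw [← hc, ← (sndR H).card_mul_index, Nat.mul_div_cancel_left _ Nat.card_pos]

/-- The transfer of a central element fixed by the graphs. -/
theorem btransfer_central (hn : ∀ H, n H ≠ 0 → IsFGraph F H) {A : Type v} [CommGroup A] (f : S →* A) {z : S}
    (hz : z ∈ Subgroup.center S)
    (hfix : ∀ H, n H ≠ 0 → ∀ k : ℕ, z ^ k ∈ sndR H → ((z ^ k, z ^ k) : S × S) ∈ H) :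
    btransfer hn f z = f z ^ degree n := by
  classical
  rw [← sum_index hn, ← Finset.prod_pow_eq_pow_sum, btransfer, MonoidHom.finsetProd_apply]
  refine Finset.prod_congr rfl fun j _ => ?_
  have key : ∀ (k : ℕ) (g₀ : S), g₀⁻¹ * z ^ k * g₀ ∈ sndR j.1 → g₀⁻¹ * z ^ k * g₀ = z ^ k := fun k g₀ _ => by
    rw [mul_assoc, ← Subgroup.mem_center_iff.1 (pow_mem hz k) g₀, inv_mul_cancel_left]
  rw [MonoidHom.transfer_eq_pow _ z key]
  show f (back _ _) = _
  rw [back_eq (r := ⟨z ^ (sndR j.1).index, _⟩) (isFGraph_index hn j)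
    (hfix _ (Nat.pos_iff_ne_zero.1 (Fin.pos j.2)) _ (MonoidHom.transfer_eq_pow_aux z key)), map_pow]

end CfsgLib.Biset
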