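import Cfsg.Agent.Fusion.Biset.Transfer
import Cfsg.Agent.S5144
import Cfsg.Agent.Fusion.Control

/-!
The transfer of an element of the centre of a fusion system is a power by the degree.
-/

set_option autoImplicit false
set_option linter.style.haveILetI false

open Cfsg

namespace CfsgLib.Biset

open Cfsg.FusionSystem CfsgLib.Fusion

universe u v

variable {Ω : Type u} [Group Ω] {S : Subgroup Ω} [Finite S] {F : Cfsg.FusionSystem S} {n : Subgroup (S × S) → ℕ}

/-- An element of the centre of the system lies in the centre of `S`. -/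
lemma mem_center_of_mem_center {z : S} (hz : (z : Ω) ∈ F.center) : z ∈ Subgroup.center S :=
  Subgroup.mem_center_iff.2 fun s => Subtype.ext
    (Subgroup.mem_centralizer_iff.1 (le_centralizer_of_isCentral (Cfsg.Agent.S5144.result F) s.2) _ hz).symm

/-- The transfer of an element of the centre of the system. -/
theorem btransfer_of_mem_center (hn : ∀ H, n H ≠ 0 → IsFGraph F H) {A : Type v} [CommGroup A] (f : S →* A) {z : S}
    (hz : (z : Ω) ∈ F.center) : btransfer hn f z = f z ^ degree n := by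
  refine btransfer_central hn f (mem_center_of_mem_center hz) fun H hH k hk => ?_
  obtain ⟨U, φ, hφ, rfl⟩ := hn H hH
  obtain ⟨⟨a, b⟩, ⟨ha, hab⟩, hb⟩ := hk
  obtain rfl : b = z ^ k := hb
  obtain ⟨ψ, hψ, hag, hfix⟩ := (Cfsg.Agent.S5144.result F).2 U φ hφ
  have hzk : ((z ^ k : S) : Ω) ∈ F.center := by simpa using F.center.pow_mem hz k
  have h1 : ψ ⟨(a : Ω), Subgroup.mem_sup_left ha⟩ = ((z ^ k : S) : Ω) := (hag ⟨_, ha⟩).trans hab
  have h2 : ψ ⟨((z ^ k : S) : Ω), Subgroup.mem_sup_right hzk⟩ = ((z ^ k : S) : Ω) := hfix ⟨_, hzk⟩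
  have h3 : a = z ^ k := Subtype.ext (Subtype.mk.inj (F.injective_of_mem hψ (h1.trans h2.symm)))
  rw [← h3] at hab ⊢
  exact ⟨ha, hab⟩

/-- Elements of the focal subgroup have trivial transfer. -/
theorem btransfer_focal (hn : ∀ H, n H ≠ 0 → IsFGraph F H) (hst : IsStable F n) {A : Type v} [CommGroup A]
    (f : S →* A) {z : S} (hz : (z : Ω) ∈ F.focalSubgroup) : btransfer hn f z = 1 := by
  have hle : F.focalSubgroup ≤ (btransfer hn f).ker.map S.subtype := by
    rw [Cfsg.FusionSystem.focalSubgroup, Subgroup.closure_le]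
    rintro _ ⟨P, φ, x, hφ, rfl⟩
    refine ⟨⟨x, le_of_hom hφ x.2⟩⁻¹ * ⟨φ x, val_mem hφ x⟩, ?_, rfl⟩
    show btransfer hn f _ = 1
    rw [map_mul, map_inv, btransfer_stable hn hst f hφ x, inv_mul_cancel]
  obtain ⟨w, hw, hwz⟩ := hle hz
  obtain rfl : w = z := Subtype.ext hwz
  exact hw

end CfsgLib.Biset
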