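import Cfsg.Agent.Fusion.Biset.TransferCenter

/-!
The transfer of an element with invariant values on its conjugates; the focal subgroup inside a subgroup normal in
the system.
-/

set_option autoImplicit false
set_option linter.style.haveILetI false

open Cfsg

namespace CfsgLib.Biset

open Cfsg.FusionSystem CfsgLib.Fusion

universe u v

variable {Ω : Type u} [Group Ω] {S : Subgroup Ω} [Finite S] {F : Cfsg.FusionSystem S} {n : Subgroup (S × S) → ℕ}

open scoped Classical in
/-- The transfer of `z` is a power of `f z` when `f` does not see the maps on the conjugates of the powers of `z`. -/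
theorem btransfer_eq_pow (hn : ∀ H, n H ≠ 0 → IsFGraph F H) {A : Type v} [CommGroup A] (f : S →* A) {z : S}
    (hfix : ∀ H, n H ≠ 0 → ∀ (g a : S) (k : ℕ), ((a, g⁻¹ * z ^ k * g) : S × S) ∈ H → f a = f z ^ k) :
    btransfer hn f z = f z ^ degree n := by
  rw [← sum_index hn, ← Finset.prod_pow_eq_pow_sum, btransfer, MonoidHom.finsetProd_apply]
  refine Finset.prod_congr rfl fun j _ => ?_
  letI : Fintype (S ⧸ sndR j.1) := Fintype.ofFinite _
  letI : Fintype (Quotient (MulAction.orbitRel (Subgroup.zpowers z) (S ⧸ sndR j.1))) := Fintype.ofFinite _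
  rw [MonoidHom.transfer_eq_prod_quotient_orbitRel_zpowers_quot]
  have hidx : (sndR j.1).index = ∑ q : Quotient (MulAction.orbitRel (Subgroup.zpowers z) (S ⧸ sndR j.1)),
      Function.minimalPeriod (z • ·) q.out := by
    rw [Subgroup.index, Nat.card_congr (Subgroup.quotientEquivSigmaZMod (sndR j.1) z), Nat.card_sigma]
    exact Finset.sum_congr rfl fun q _ => Nat.card_zmod _
  rw [hidx, ← Finset.prod_pow_eq_pow_sum]
  refine Finset.prod_congr rfl fun q _ => ?_
  exact hfix _ (Nat.pos_iff_ne_zero.1 (Fin.pos j.2)) _ _ _ (back_mem (isFGraph_index hn j) _)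

/-- An element of the focal subgroup lying in a normal subgroup `Q` is killed by every map to an abelian group
invariant under the automorphisms of `Q`. -/
theorem eq_one_of_mem_normal {p : ℕ} [Fact p.Prime] (hS : IsPGroup p S) (hF : F.IsSaturated p) {Q : Subgroup Ω}
    (hQ : F.IsNormal Q) {A : Type v} [CommGroup A] (f : S →* A)
    (hinv : ∀ (χ : Q →* Ω) (hχ : χ ∈ F.Hom Q) (x : Q), f ⟨χ x, val_mem hχ x⟩ = f ⟨x, hQ.1 x.2⟩)
    {z : S} (hzQ : (z : Ω) ∈ Q) (hz : (z : Ω) ∈ F.focalSubgroup) : f z = 1 := by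
  obtain ⟨n, hn, hst, hdeg⟩ := exists_stable hS hF
  have h1 : f z ^ degree n = 1 := by
    rw [← btransfer_eq_pow hn f (z := z) ?_, btransfer_focal hn hst f hz]
    intro H hH g a k hak
    obtain ⟨U, φ, hφ, rfl⟩ := hn H hH
    obtain ⟨ha, hab⟩ := hak
    obtain ⟨ψ, hψ, hag, hψQ⟩ := hQ.2 U φ hφ
    set w : S := g⁻¹ * z ^ k * g with hw
    have hwQ : (w : Ω) ∈ Q := conj_inv_mem_of_normalizer (le_normalizer_of_isNormal hQ g.2) (Q.pow_mem hzQ k)
    obtain ⟨⟨d, hd⟩, hdQ, hde⟩ := hψQ.ge hwQ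
    have h2 : (⟨d, hd⟩ : ↥(U ⊔ Q)) = ⟨a, Subgroup.mem_sup_left ha⟩ :=
      F.injective_of_mem hψ (hde.trans (hab.symm.trans (hag ⟨a, ha⟩).symm))
    have haQ : (a : Ω) ∈ Q := Subtype.mk.inj h2 ▸ hdQ
    have h3 := hinv (ψ.comp (Subgroup.inclusion le_sup_right)) (restrict hψ le_sup_right) ⟨a, haQ⟩
    have h4 : f w = f a := by
      refine Eq.trans (congrArg f (Subtype.ext ?_)) h3
      exact ((hag ⟨a, ha⟩).trans hab).symm
    rw [← h4, hw, map_mul, map_mul, map_inv, map_pow, mul_comm _ (f g), mul_inv_cancel_left]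
  obtain ⟨m, hm⟩ := hS z
  refine orderOf_eq_one_iff.1 (Nat.eq_one_of_dvd_coprimes ?_ (orderOf_dvd_of_pow_eq_one (n := p ^ m) (by rw [← map_pow, hm, map_one]))
    (orderOf_dvd_of_pow_eq_one h1))
  exact Nat.Coprime.pow_left m ((Nat.Prime.coprime_iff_not_dvd Fact.out).2 hdeg)

end CfsgLib.Biset
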